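import Mathlib

/-!
# Extending units from the generic fibre over a discrete valuation ring
-/

set_option autoImplicit false
set_option backward.isDefEq.respectTransparency false
set_option linter.style.haveILetI false

universe u

open TensorProduct CategoryTheory CategoryTheory.Limits AlgebraicGeometry IsLocalRing
open scoped TensorProduct

noncomputable section

namespace Groth.Agent.GenExt

section Alg

theorem exists_denom {R L : Type u} [CommRing R] [IsDomain R] [Field L] [Algebra R L] [IsFractionRing R L]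
    {A : Type u} [CommRing A] [Algebra R A] (u : A ⊗[R] L) :
    ∃ (a : A) (c : R), c ≠ 0 ∧ u * (1 ⊗ₜ[R] algebraMap R L c) = a ⊗ₜ[R] 1 := by
  have hsw : ∀ (a : A) (r : R), (a ⊗ₜ[R] algebraMap R L r : A ⊗[R] L) = (r • a) ⊗ₜ[R] 1 := fun a r => by
    rw [Algebra.algebraMap_eq_smul_one, TensorProduct.smul_tmul]
  induction u using TensorProduct.induction_on with
  | zero => exact ⟨0, 1, one_ne_zero, by rw [zero_mul, TensorProduct.zero_tmul]⟩
  | tmul a x =>
    obtain ⟨r, s, hs, rfl⟩ := IsFractionRing.div_surjective R x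
    refine ⟨r • a, s, nonZeroDivisors.ne_zero hs, ?_⟩
    rw [Algebra.TensorProduct.tmul_mul_tmul, mul_one, div_mul_cancel₀, hsw]
    exact (map_ne_zero_iff _ (IsFractionRing.injective R L)).2 (nonZeroDivisors.ne_zero hs)
  | add u v hu hv =>
    obtain ⟨a, c, hc, h1⟩ := hu
    obtain ⟨b, d, hd, h2⟩ := hv
    refine ⟨d • a + c • b, c * d, mul_ne_zero hc hd, ?_⟩
    have hcd : (1 ⊗ₜ[R] algebraMap R L (c * d) : A ⊗[R] L) =
        (1 ⊗ₜ[R] algebraMap R L c) * (1 ⊗ₜ[R] algebraMap R L d) := by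
      rw [Algebra.TensorProduct.tmul_mul_tmul, mul_one, map_mul]
    rw [add_mul, hcd, ← mul_assoc, h1, mul_left_comm, h2, TensorProduct.add_tmul, ← hsw, ← hsw,
      Algebra.TensorProduct.tmul_mul_tmul, Algebra.TensorProduct.tmul_mul_tmul, mul_one, one_mul, one_mul, mul_one]

theorem include_injective {R L : Type u} [CommRing R] [IsDomain R] [Field L] [Algebra R L] [IsFractionRing R L]
    (A : Type u) [CommRing A] [Algebra R A] [Module.Flat R A] :
    Function.Injective (fun a : A => a ⊗ₜ[R] (1 : L)) :=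
  Algebra.TensorProduct.includeLeft_injective (S := R) (IsFractionRing.injective R L)

theorem exists_unit_mul_pow {A : Type u} [CommRing A] {p : A} (hp : Prime p) (hreg : IsLeftRegular p) :
    ∀ (N : ℕ) (a b : A), a * b = p ^ N → ∃ (i : ℕ) (v : Aˣ), a = v * p ^ i := by
  intro N
  induction N with
  | zero =>
    intro a b h
    exact ⟨0, (IsUnit.of_mul_eq_one b (by simpa using h)).unit, by simp⟩
  | succ n ih =>
    intro a b h
    rcases hp.dvd_or_dvd (h ▸ dvd_pow_self p n.succ_ne_zero : p ∣ a * b) with ⟨a', rfl⟩ | ⟨b', rfl⟩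
    · obtain ⟨i, v, rfl⟩ := ih a' b (hreg (by rw [pow_succ'] at h; simpa [mul_assoc] using h))
      exact ⟨i + 1, v, by rw [pow_succ']; ring⟩
    · refine ih a b' (hreg (?_ : p * (a * b') = p * p ^ n))
      rw [← pow_succ', ← h]; ring

variable {O : Type u} [CommRing O] [IsDomain O] [IsDiscreteValuationRing O]
  {L : Type u} [Field L] [Algebra O L] [IsFractionRing O L]

theorem isLeftRegular_algebraMap {A : Type u} [CommRing A] [Algebra O A] [Module.Flat O A] {c : O} (hc : c ≠ 0) :
    IsLeftRegular (algebraMap O A c) := fun x y h => by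
  let L := FractionRing O
  refine include_injective (R := O) (L := L) A ?_
  have hu : IsUnit ((1 : A) ⊗ₜ[O] algebraMap O L c) := by
    refine IsUnit.of_mul_eq_one (1 ⊗ₜ[O] (algebraMap O L c)⁻¹) ?_
    rw [Algebra.TensorProduct.tmul_mul_tmul, mul_one,
      mul_inv_cancel₀ ((map_ne_zero_iff _ (IsFractionRing.injective O L)).2 hc)]
    rfl
  apply hu.mul_left_cancel
  show (1 : A) ⊗ₜ[O] algebraMap O L c * (x ⊗ₜ[O] 1) = 1 ⊗ₜ[O] algebraMap O L c * (y ⊗ₜ[O] 1)
  rw [Algebra.TensorProduct.tmul_mul_tmul, Algebra.TensorProduct.tmul_mul_tmul, one_mul, one_mul, mul_one,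
    Algebra.algebraMap_eq_smul_one, ← TensorProduct.smul_tmul, ← TensorProduct.smul_tmul, Algebra.smul_def,
    Algebra.smul_def]
  exact congrArg (fun z => z ⊗ₜ[O] (1 : L)) h

variable (π : O) (hπ : Irreducible π)

include hπ in
theorem normal_form {A : Type u} [CommRing A] [Algebra O A] [Module.Flat O A] (hp : Prime (algebraMap O A π))
    (u u' : A ⊗[O] L) (h : u * u' = 1) :
    ∃ (i j : ℕ) (v : Aˣ), u * ((algebraMap O A π ^ j) ⊗ₜ[O] 1) = ((v : A) * algebraMap O A π ^ i) ⊗ₜ[O] 1 := by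
  have hd : ∀ u : A ⊗[O] L, ∃ (a : A) (k : ℕ), u * ((algebraMap O A π ^ k) ⊗ₜ[O] 1) = a ⊗ₜ[O] 1 := fun u => by
    obtain ⟨a, c, hc, h⟩ := exists_denom u
    obtain ⟨k, w, rfl⟩ := IsDiscreteValuationRing.eq_unit_mul_pow_irreducible hc hπ
    refine ⟨algebraMap O A ↑w⁻¹ * a, k, ?_⟩
    have e : ((algebraMap O A π ^ k) ⊗ₜ[O] (1 : L) : A ⊗[O] L) =
        (1 ⊗ₜ[O] algebraMap O L (↑w * π ^ k)) * (algebraMap O A ↑w⁻¹ ⊗ₜ[O] 1) := by
      rw [Algebra.TensorProduct.tmul_mul_tmul, one_mul, mul_one, Algebra.algebraMap_eq_smul_one (R := O) (A := L),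
        ← TensorProduct.smul_tmul, Algebra.smul_def, ← map_mul, mul_right_comm, Units.mul_inv, one_mul, map_pow]
    rw [e, ← mul_assoc, h, Algebra.TensorProduct.tmul_mul_tmul, mul_one, mul_comm]
  obtain ⟨a, k, ha⟩ := hd u
  obtain ⟨b, l, hb⟩ := hd u'
  have hab : a * b = algebraMap O A π ^ (k + l) := by
    refine include_injective (R := O) (L := L) A ?_
    show (a * b) ⊗ₜ[O] (1 : L) = (algebraMap O A π ^ (k + l)) ⊗ₜ[O] 1
    rw [← one_mul (1 : L), ← Algebra.TensorProduct.tmul_mul_tmul, ← ha, ← hb,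
      mul_mul_mul_comm, h, one_mul, Algebra.TensorProduct.tmul_mul_tmul, ← pow_add]
  obtain ⟨i, v, rfl⟩ := exists_unit_mul_pow hp (isLeftRegular_algebraMap hπ.ne_zero) _ a b hab
  exact ⟨i, k, v, ha⟩

/-- The map induced on generic fibres. -/
def genMap {A A' : Type u} [CommRing A] [Algebra O A] [CommRing A'] [Algebra O A'] (φ : A →ₐ[O] A') :
    A ⊗[O] L →ₐ[O] A' ⊗[O] L :=
  Algebra.TensorProduct.map φ (AlgHom.id O L)

include hπ in
theorem mem_range_of_map {A A' : Type u} [CommRing A] [Algebra O A] [Module.Flat O A] [CommRing A'] [Algebra O A']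
    [Module.Flat O A'] (hp : Prime (algebraMap O A π)) (hnu : ¬ IsUnit (algebraMap O A' π)) (φ : A →ₐ[O] A')
    (u u' : A ⊗[O] L) (h : u * u' = 1) (g g' : A') (hg : genMap φ u = g ⊗ₜ[O] 1) (hg' : genMap φ u' = g' ⊗ₜ[O] 1) :
    ∃ a : A, u = a ⊗ₜ[O] 1 := by
  obtain ⟨i, j, v, hv⟩ := normal_form π hπ hp u u' h
  have hgg : g * g' = 1 := by
    refine include_injective (R := O) (L := L) A' ?_
    show (g * g') ⊗ₜ[O] (1 : L) = 1 ⊗ₜ[O] 1
    rw [← one_mul (1 : L), ← Algebra.TensorProduct.tmul_mul_tmul, ← hg, ← hg', ← map_mul, h, map_one, one_mul]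
    rfl
  have he : g * algebraMap O A' π ^ j = φ v * algebraMap O A' π ^ i := by
    refine include_injective (R := O) (L := L) A' ?_
    show (g * algebraMap O A' π ^ j) ⊗ₜ[O] (1 : L) = (φ v * algebraMap O A' π ^ i) ⊗ₜ[O] 1
    have h2 := congrArg (genMap φ) hv
    rw [map_mul, hg] at h2
    simp only [genMap, Algebra.TensorProduct.map_tmul, AlgHom.id_apply, map_mul, map_pow, AlgHom.commutes,
      Algebra.TensorProduct.tmul_mul_tmul, mul_one] at h2
    exact h2
  have hreg : ∀ n, IsLeftRegular (algebraMap O A' π ^ n) := fun n =>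
    (isLeftRegular_algebraMap hπ.ne_zero).pow n
  have hij : i = j := by
    rcases lt_trichotomy i j with hlt | heq | hlt
    · exfalso
      obtain ⟨d, rfl⟩ := Nat.exists_eq_add_of_lt hlt
      have e : g * algebraMap O A' π ^ (d + 1) = φ v := by
        refine (hreg i) ?_
        show algebraMap O A' π ^ i * _ = algebraMap O A' π ^ i * _
        rw [mul_comm _ (φ v), ← he, add_assoc, pow_add]; ring
      refine hnu (IsUnit.of_mul_eq_one (g * algebraMap O A' π ^ d * φ ↑v⁻¹) ?_)
      calc algebraMap O A' π * (g * algebraMap O A' π ^ d * φ ↑v⁻¹)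
          = g * algebraMap O A' π ^ (d + 1) * φ ↑v⁻¹ := by rw [pow_succ]; ring
        _ = 1 := by rw [e, ← map_mul, Units.mul_inv, map_one]
    · exact heq
    · exfalso
      obtain ⟨d, rfl⟩ := Nat.exists_eq_add_of_lt hlt
      have e : g = φ v * algebraMap O A' π ^ (d + 1) := by
        refine (hreg j) ?_
        show algebraMap O A' π ^ j * _ = algebraMap O A' π ^ j * _
        rw [mul_comm _ g, he, add_assoc, pow_add]; ring
      refine hnu (IsUnit.of_mul_eq_one (φ v * algebraMap O A' π ^ d * g') ?_)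
      calc algebraMap O A' π * (φ v * algebraMap O A' π ^ d * g')
          = φ v * algebraMap O A' π ^ (d + 1) * g' := by rw [pow_succ]; ring
        _ = 1 := by rw [← e, hgg]
  subst hij
  refine ⟨v, ?_⟩
  have hu : IsUnit ((algebraMap O A π ^ i) ⊗ₜ[O] (1 : L) : A ⊗[O] L) := by
    rw [← map_pow, Algebra.algebraMap_eq_smul_one, TensorProduct.smul_tmul, ← Algebra.algebraMap_eq_smul_one]
    refine IsUnit.of_mul_eq_one (1 ⊗ₜ[O] (algebraMap O L (π ^ i))⁻¹) ?_
    rw [Algebra.TensorProduct.tmul_mul_tmul, mul_one,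
      mul_inv_cancel₀ ((map_ne_zero_iff _ (IsFractionRing.injective O L)).2 (pow_ne_zero _ hπ.ne_zero))]
    rfl
  apply hu.mul_right_cancel
  rw [hv, Algebra.TensorProduct.tmul_mul_tmul, mul_one]

include hπ in
theorem mem_range_of_point {A : Type u} [CommRing A] [Algebra O A] [Module.Flat O A]
    (hp : Prime (algebraMap O A π)) (φ : A →ₐ[O] O)
    (u u' : A ⊗[O] L) (h : u * u' = 1) (g g' : O) (hg : genMap φ u = g ⊗ₜ[O] (1 : L))
    (hg' : genMap φ u' = g' ⊗ₜ[O] (1 : L)) : ∃ a : A, u = a ⊗ₜ[O] 1 :=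
  mem_range_of_map (A' := O) π hπ hp (by simpa using hπ.not_isUnit) φ u u' h g g' hg hg'

end Alg

section Geom

variable {O : Type u} [CommRing O] [IsDomain O] [IsDiscreteValuationRing O]
  {L : Type u} [Field L] [Algebra O L] [IsFractionRing O L]

/-- The generic point of the base. -/
abbrev genPt (O L : Type u) [CommRing O] [Field L] [Algebra O L] :
    Spec (CommRingCat.of L) ⟶ Spec (CommRingCat.of O) := Spec.map (CommRingCat.ofHom (algebraMap O L))

/-- The generic fibre of a chart. -/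
def chartGen {G : Scheme.{u}} {p : G ⟶ Spec (CommRingCat.of O)} {A : Type u} [CommRing A] [Algebra O A]
    (j : Spec (CommRingCat.of A) ⟶ G) (hj : j ≫ p = Spec.map (CommRingCat.ofHom (algebraMap O A))) :
    Spec (CommRingCat.of (A ⊗[O] L)) ⟶ pullback p (genPt O L) :=
  pullback.lift (Spec.map (CommRingCat.ofHom Algebra.TensorProduct.includeLeftRingHom) ≫ j)
    (Spec.map (CommRingCat.ofHom (Algebra.TensorProduct.includeRight : L →ₐ[O] A ⊗[O] L).toRingHom)) (by
      rw [Category.assoc, hj, ← Spec.map_comp, ← Spec.map_comp]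
      congr 1
      ext r
      exact ((Algebra.TensorProduct.includeRight : L →ₐ[O] A ⊗[O] L).commutes r).symm)

theorem chartGen_comp {G : Scheme.{u}} {p : G ⟶ Spec (CommRingCat.of O)} {A A' : Type u} [CommRing A] [Algebra O A]
    [CommRing A'] [Algebra O A'] (j : Spec (CommRingCat.of A) ⟶ G)
    (hj : j ≫ p = Spec.map (CommRingCat.ofHom (algebraMap O A))) (φ : A →ₐ[O] A')
    (j' : Spec (CommRingCat.of A') ⟶ G) (hj' : j' ≫ p = Spec.map (CommRingCat.ofHom (algebraMap O A')))
    (h : j' = Spec.map (CommRingCat.ofHom φ.toRingHom) ≫ j) :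
    chartGen (L := L) j' hj' = Spec.map (CommRingCat.ofHom (genMap (L := L) φ).toRingHom) ≫ chartGen j hj := by
  apply pullback.hom_ext
  · rw [chartGen, chartGen, pullback.lift_fst, Category.assoc, pullback.lift_fst, h, ← Category.assoc, ← Category.assoc,
      ← Spec.map_comp, ← Spec.map_comp]
    congr 2
  · rw [chartGen, chartGen, pullback.lift_snd, Category.assoc, pullback.lift_snd, ← Spec.map_comp]
    congr 1
    ext a
    show (1 : A') ⊗ₜ[O] a = genMap φ (1 ⊗ₜ[O] a)
    simp [genMap]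

/-- A chart over a point of the closed fibre. -/
theorem not_isUnit_of_closed {A : Type u} [CommRing A] [Algebra O A] {π : O} (hπ : Irreducible π)
    (P : PrimeSpectrum A) (hP : (Spec.map (CommRingCat.ofHom (algebraMap O A))) P = closedPoint O) :
    ¬ IsUnit (algebraMap O A π) := fun hu => by
  have h : P.asIdeal.comap (algebraMap O A) = maximalIdeal O := congrArg PrimeSpectrum.asIdeal hP
  have hm : π ∈ maximalIdeal O := (mem_maximalIdeal π).2 hπ.not_isUnit
  rw [← h, Ideal.mem_comap] at hm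
  exact P.isPrime.ne_top (Ideal.eq_top_of_isUnit_mem _ hm hu)

/-- The closed point inclusion. -/
abbrev resPt (O : Type u) [CommRing O] [IsLocalRing O] :
    Spec (CommRingCat.of (ResidueField O)) ⟶ Spec (CommRingCat.of O) := Spec.map (CommRingCat.ofHom (residue O))

section Val

variable {G : Scheme.{u}} {p : G ⟶ Spec (CommRingCat.of O)} {B : Type u} [CommRing B] [Algebra O B]
  (w : pullback p (genPt O L) ⟶ Spec (CommRingCat.of B))
  (hw : w ≫ Spec.map (CommRingCat.ofHom (algebraMap O B)) = pullback.fst _ _ ≫ p)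

/-- The functions on the generic fibre of a chart defined by a map to an affine scheme. -/
def valHom {A : Type u} [CommRing A] [Algebra O A] (j : Spec (CommRingCat.of A) ⟶ G)
    (hj : j ≫ p = Spec.map (CommRingCat.ofHom (algebraMap O A))) : B →ₐ[O] A ⊗[O] L :=
  { (Spec.preimage (chartGen (L := L) j hj ≫ w)).hom with
    commutes' := fun r => by
      have h : CommRingCat.ofHom (algebraMap O B) ≫ Spec.preimage (chartGen (L := L) j hj ≫ w) =
          CommRingCat.ofHom (algebraMap O (A ⊗[O] L)) := by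
        apply Spec.map_injective
        rw [Spec.map_comp, Spec.map_preimage, Category.assoc, hw, chartGen, pullback.lift_fst_assoc, Category.assoc,
          hj, ← Spec.map_comp]
        congr 1
      exact congrArg (fun f : CommRingCat.of O ⟶ CommRingCat.of (A ⊗[O] L) => f.hom r) h }

theorem valHom_comp {A A' : Type u} [CommRing A] [Algebra O A] [CommRing A'] [Algebra O A']
    (j : Spec (CommRingCat.of A) ⟶ G) (hj : j ≫ p = Spec.map (CommRingCat.ofHom (algebraMap O A)))
    (φ : A →ₐ[O] A') (j' : Spec (CommRingCat.of A') ⟶ G)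
    (hj' : j' ≫ p = Spec.map (CommRingCat.ofHom (algebraMap O A')))
    (h : j' = Spec.map (CommRingCat.ofHom φ.toRingHom) ≫ j) (b : B) :
    genMap φ (valHom w hw j hj b) = valHom w hw j' hj' b := by
  have h2 : Spec.preimage (chartGen (L := L) j hj ≫ w) ≫ CommRingCat.ofHom (genMap (L := L) φ).toRingHom =
      Spec.preimage (chartGen (L := L) j' hj' ≫ w) := by
    apply Spec.map_injective
    rw [Spec.map_comp, Spec.map_preimage, Spec.map_preimage, chartGen_comp j hj φ j' hj' h, Category.assoc]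
  exact congrArg (fun f : CommRingCat.of B ⟶ CommRingCat.of (A' ⊗[O] L) => f.hom b) h2

theorem valHom_section (e : Spec (CommRingCat.of O) ⟶ G) (he : e ≫ p = 𝟙 _) (σ : B →ₐ[O] O)
    (hwe : pullback.lift (genPt O L ≫ e) (𝟙 _) (by rw [Category.assoc, he, Category.comp_id, Category.id_comp]) ≫ w =
      genPt O L ≫ Spec.map (CommRingCat.ofHom σ.toRingHom))
    (hje : e ≫ p = Spec.map (CommRingCat.ofHom (algebraMap O O))) (b : B) :
    valHom w hw e hje b = σ b ⊗ₜ[O] 1 := by
  have hincl : CommRingCat.ofHom (algebraMap O L) ≫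
      CommRingCat.ofHom (Algebra.TensorProduct.includeRight : L →ₐ[O] O ⊗[O] L).toRingHom =
      CommRingCat.ofHom (Algebra.TensorProduct.includeLeftRingHom : O →+* O ⊗[O] L) := by
    ext r
    exact (Algebra.TensorProduct.includeRight : L →ₐ[O] O ⊗[O] L).commutes r
  have h : chartGen (L := L) e hje = Spec.map (CommRingCat.ofHom
      (Algebra.TensorProduct.includeRight : L →ₐ[O] O ⊗[O] L).toRingHom) ≫ pullback.lift (genPt O L ≫ e) (𝟙 _)
      (by rw [Category.assoc, he, Category.comp_id, Category.id_comp]) := by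
    apply pullback.hom_ext
    · rw [chartGen, pullback.lift_fst, Category.assoc, pullback.lift_fst, ← Category.assoc, ← Spec.map_comp, hincl]
    · rw [chartGen, pullback.lift_snd, Category.assoc, pullback.lift_snd, Category.comp_id]
  have h2 : Spec.preimage (chartGen (L := L) e hje ≫ w) =
      CommRingCat.ofHom σ.toRingHom ≫ CommRingCat.ofHom (Algebra.TensorProduct.includeLeftRingHom : O →+* O ⊗[O] L) := by
    apply Spec.map_injective
    rw [Spec.map_preimage, h, Category.assoc, hwe, ← hincl, Spec.map_comp, Spec.map_comp, Category.assoc]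
  exact congrArg (fun f : CommRingCat.of B ⟶ CommRingCat.of (O ⊗[O] L) => f.hom b) h2

end Val

theorem prime_of_chart {π : O} (hπ : Irreducible π) {G : Scheme.{u}} {p : G ⟶ Spec (CommRingCat.of O)}
    [IsIntegral (pullback p (resPt O))] {A : Type u} [CommRing A] [Algebra O A] [Module.Flat O A]
    (j : Spec (CommRingCat.of A) ⟶ G) [IsOpenImmersion j]
    (hj : j ≫ p = Spec.map (CommRingCat.ofHom (algebraMap O A))) (hnu : ¬ IsUnit (algebraMap O A π)) :
    Prime (algebraMap O A π) := by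
  let F := pullback (Spec.map (CommRingCat.ofHom (algebraMap O A))) (resPt O)
  let f : F ⟶ pullback p (resPt O) := pullback.lift (pullback.fst _ _ ≫ j) (pullback.snd _ _) (by
    rw [Category.assoc, hj, pullback.condition])
  have hsq : IsPullback f (pullback.fst _ _) (pullback.fst p (resPt O)) j := by
    refine IsPullback.of_right (h₁₂ := pullback.snd p (resPt O)) (v₁₃ := resPt O) (h₂₂ := p) ?_
      (pullback.lift_fst _ _ _) (IsPullback.of_hasPullback p (resPt O)).flip
    rw [pullback.lift_snd, hj]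
    exact (IsPullback.of_hasPullback _ (resPt O)).flip
  haveI : IsOpenImmersion f := MorphismProperty.of_isPullback hsq.flip ‹IsOpenImmersion j›
  let Q := A ⧸ (maximalIdeal O).map (algebraMap O A)
  have hm : (maximalIdeal O).map (algebraMap O A) = Ideal.span {algebraMap O A π} := by
    rw [hπ.maximalIdeal_eq, Ideal.map_span, Set.image_singleton]
  haveI : Nontrivial Q := Ideal.Quotient.nontrivial_iff.2 (by
    rw [hm, Ne, Ideal.span_singleton_eq_top]; exact hnu)
  let iF : F ≅ Spec (CommRingCat.of Q) := pullbackSpecIso O A (ResidueField O) ≪≫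
    Scheme.Spec.mapIso (Algebra.TensorProduct.quotIdealMapEquivTensorQuot A (maximalIdeal O)).toRingEquiv.toCommRingCatIso.op
  haveI : Nonempty F := ⟨iF.inv (Nonempty.some inferInstance)⟩
  haveI : IsIntegral F := isIntegral_of_isOpenImmersion f
  haveI : IsIntegral (Spec (CommRingCat.of Q)) := isIntegral_of_isOpenImmersion iF.inv
  haveI : IsDomain Q := (affine_isIntegral_iff (CommRingCat.of Q)).1 ‹_›
  have hI : ((maximalIdeal O).map (algebraMap O A)).IsPrime := (Ideal.Quotient.isDomain_iff_prime _).1 ‹_›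
  rw [hm] at hI
  refine (Ideal.span_singleton_prime fun h0 => ?_).1 hI
  haveI : Nontrivial A := not_subsingleton_iff_nontrivial.1 fun _ => hnu (isUnit_of_subsingleton _)
  exact (isLeftRegular_algebraMap (A := A) hπ.ne_zero).ne_zero h0

/-- An affine chart inside an open set. -/
theorem exists_chart {G : Scheme.{u}} (p : G ⟶ Spec (CommRingCat.of O)) (U : G.Opens) {y : G} (hy : y ∈ U) :
    ∃ (A : Type u) (_ : CommRing A) (_ : Algebra O A) (j : Spec (CommRingCat.of A) ⟶ G),
      IsOpenImmersion j ∧ j ≫ p = Spec.map (CommRingCat.ofHom (algebraMap O A)) ∧ y ∈ Set.range j ∧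
      Set.range j ⊆ U := by
  obtain ⟨_, ⟨W : G.Opens, hW, rfl⟩, hyW, hWU⟩ := G.isBasis_affineOpens.exists_subset_of_mem_open hy U.2
  replace hW : IsAffineOpen W := hW
  refine ⟨Γ(G, W), inferInstance, (Spec.preimage (hW.fromSpec ≫ p)).hom.toAlgebra, hW.fromSpec, inferInstance,
    (Spec.map_preimage _).symm, ?_, ?_⟩
  · exact hW.range_fromSpec.symm ▸ hyW
  · exact hW.range_fromSpec.symm ▸ hWU

/-- An algebra map from a factorisation of charts. -/
theorem exists_algHom {G : Scheme.{u}} (p : G ⟶ Spec (CommRingCat.of O)) {A₁ A' : Type u} [CommRing A₁]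
    [Algebra O A₁] [CommRing A'] [Algebra O A'] (j₁ : Spec (CommRingCat.of A₁) ⟶ G) [IsOpenImmersion j₁]
    (hj₁ : j₁ ≫ p = Spec.map (CommRingCat.ofHom (algebraMap O A₁))) (j' : Spec (CommRingCat.of A') ⟶ G)
    (hj' : j' ≫ p = Spec.map (CommRingCat.ofHom (algebraMap O A'))) (hsub : Set.range j' ⊆ Set.range j₁) :
    ∃ φ : A₁ →ₐ[O] A', j' = Spec.map (CommRingCat.ofHom φ.toRingHom) ≫ j₁ := by
  refine ⟨{ (Spec.preimage (IsOpenImmersion.lift j₁ j' hsub)).hom with
    commutes' := fun r => by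
      have h : CommRingCat.ofHom (algebraMap O A₁) ≫ Spec.preimage (IsOpenImmersion.lift j₁ j' hsub) =
          CommRingCat.ofHom (algebraMap O A') := by
        apply Spec.map_injective
        rw [Spec.map_comp, Spec.map_preimage, ← hj₁, IsOpenImmersion.lift_fac_assoc, hj']
      exact congrArg (fun f : CommRingCat.of O ⟶ CommRingCat.of A' => f.hom r) h }, ?_⟩
  show j' = Spec.map (Spec.preimage _) ≫ j₁
  rw [Spec.map_preimage, IsOpenImmersion.lift_fac]

/-- A unit on the generic fibre with unit value along a section extends over every chart, if the closed fibre is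
integral. -/
theorem exists_extend_of_units (G : Scheme.{u}) (p : G ⟶ Spec (CommRingCat.of O)) [Flat p]
    [IsIntegral (pullback p (resPt O))]
    (e : Spec (CommRingCat.of O) ⟶ G) (he : e ≫ p = 𝟙 _)
    (B : Type u) [CommRing B] [Algebra O B] (hB : Algebra.adjoin O {b : B | IsUnit b} = ⊤) (σ : B →ₐ[O] O)
    (w : pullback p (genPt O L) ⟶ Spec (CommRingCat.of B))
    (hw : w ≫ Spec.map (CommRingCat.ofHom (algebraMap O B)) = pullback.fst _ _ ≫ p)
    (hwe : pullback.lift (genPt O L ≫ e) (𝟙 _) (by rw [Category.assoc, he, Category.comp_id, Category.id_comp]) ≫ w =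
      genPt O L ≫ Spec.map (CommRingCat.ofHom σ.toRingHom))
    {A : Type u} [CommRing A] [Algebra O A] (j : Spec (CommRingCat.of A) ⟶ G) [IsOpenImmersion j]
    (hj : j ≫ p = Spec.map (CommRingCat.ofHom (algebraMap O A))) (b : B) :
    ∃ a : A, (Spec.preimage (chartGen (L := L) j hj ≫ w)).hom b = a ⊗ₜ[O] 1 := by
  obtain ⟨π, hπ⟩ := IsDiscreteValuationRing.exists_irreducible O
  have hflat : ∀ {A : Type u} [CommRing A] [Algebra O A] (j : Spec (CommRingCat.of A) ⟶ G) [IsOpenImmersion j],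
      j ≫ p = Spec.map (CommRingCat.ofHom (algebraMap O A)) → Module.Flat O A := fun {A} _ _ j _ hj => by
    haveI : Flat (Spec.map (CommRingCat.ofHom (algebraMap O A))) := by rw [← hj]; infer_instance
    exact RingHom.flat_algebraMap_iff.1 (Flat.SpecMap_iff.1 ‹_›)
  haveI := hflat j hj
  -- the value along the section
  have hje : e ≫ p = Spec.map (CommRingCat.ofHom (algebraMap O O)) := by
    rw [he, Algebra.algebraMap_self]; exact (Spec.map_id _).symm
  have hσ : ∀ b, valHom w hw e hje b = σ b ⊗ₜ[O] 1 := valHom_section w hw e he σ hwe hje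
  -- every chart
  suffices key : ∀ b : B, IsUnit b → ∃ a : A, valHom w hw j hj b = a ⊗ₜ[O] 1 by
    have hle : Algebra.adjoin O {b : B | IsUnit b} ≤
        ((Algebra.TensorProduct.includeLeft : A →ₐ[O] A ⊗[O] L).range).comap (valHom w hw j hj) :=
      Algebra.adjoin_le fun b hb => by
        obtain ⟨a, ha⟩ := key b hb
        exact ⟨a, ha.symm⟩
    obtain ⟨a, ha⟩ := hle (hB ▸ Algebra.mem_top : b ∈ _)
    exact ⟨a, ha.symm⟩
  intro b hb
  obtain ⟨b', hbb'⟩ := hb.exists_right_inv
  have hmul : ∀ {A : Type u} [CommRing A] [Algebra O A] (j : Spec (CommRingCat.of A) ⟶ G)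
      (hj : j ≫ p = Spec.map (CommRingCat.ofHom (algebraMap O A))), valHom w hw j hj b * valHom w hw j hj b' = 1 := fun j hj => by
    rw [← map_mul, hbb', map_one]
  by_cases hnu : IsUnit (algebraMap O A π)
  · obtain ⟨a, c, hc, h⟩ := exists_denom (valHom w hw j hj b)
    obtain ⟨k, v, rfl⟩ := IsDiscreteValuationRing.eq_unit_mul_pow_irreducible hc hπ
    have hcu : IsUnit (algebraMap O A (↑v * π ^ k)) := by
      rw [map_mul, map_pow]; exact (v.isUnit.map _).mul (hnu.pow k)
    refine ⟨↑hcu.unit⁻¹ * a, ?_⟩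
    have e : (1 ⊗ₜ[O] algebraMap O L (↑v * π ^ k) : A ⊗[O] L) = algebraMap O A (↑v * π ^ k) ⊗ₜ[O] 1 := by
      rw [Algebra.algebraMap_eq_smul_one (A := L), ← TensorProduct.smul_tmul, Algebra.smul_def, mul_one]
    rw [e] at h
    refine (hcu.map (Algebra.TensorProduct.includeLeftRingHom : A →+* A ⊗[O] L)).mul_right_cancel ?_
    show valHom w hw j hj b * (algebraMap O A (↑v * π ^ k) ⊗ₜ[O] 1) = _
    rw [h]
    show a ⊗ₜ[O] (1 : L) = ((↑hcu.unit⁻¹ * a) ⊗ₜ[O] 1) * (algebraMap O A (↑v * π ^ k) ⊗ₜ[O] 1)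
    rw [Algebra.TensorProduct.tmul_mul_tmul, mul_one, mul_comm, ← mul_assoc, IsUnit.mul_val_inv, one_mul]
  -- a chart through the section
  let c₀ := closedPoint O
  obtain ⟨A₀, _, _, j₀, hj₀i, hj₀, he₀, -⟩ := exists_chart p ⊤ (y := e c₀) trivial
  haveI := hj₀i
  haveI := hflat (A := A₀) j₀ hj₀
  have herange : Set.range e ⊆ Set.range j₀ := by
    rintro _ ⟨x, rfl⟩
    exact ((IsLocalRing.specializes_closedPoint x).map e.continuous).mem_open j₀.opensRange.2 he₀
  obtain ⟨φe, hefac⟩ := exists_algHom p j₀ hj₀ e hje herange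
  have hnuO : ¬ IsUnit (algebraMap O O π) := hπ.not_isUnit
  have hnu₀ : ¬ IsUnit (algebraMap O A₀ π) := fun h => hnuO (by simpa using h.map φe)
  have h₀ : ∀ c c' : B, c * c' = 1 → ∃ a, valHom w hw j₀ hj₀ c = a ⊗ₜ[O] 1 := by
    intro c c' hcc
    have e1 : genMap φe (valHom w hw j₀ hj₀ c) = σ c ⊗ₜ[O] (1 : L) := by
      rw [valHom_comp w hw j₀ hj₀ φe e hje hefac c]; exact hσ c
    have e2 : genMap φe (valHom w hw j₀ hj₀ c') = σ c' ⊗ₜ[O] (1 : L) := by
      rw [valHom_comp w hw j₀ hj₀ φe e hje hefac c']; exact hσ c'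
    have hm : valHom w hw j₀ hj₀ c * valHom w hw j₀ hj₀ c' = 1 := by rw [← map_mul, hcc, map_one]
    have hp₀ := prime_of_chart hπ j₀ hj₀ hnu₀
    exact mem_range_of_point π hπ hp₀ φe _ _ hm (σ c) (σ c') e1 e2
  -- a common point of the closed fibre
  obtain ⟨P, hPmax, hPπ⟩ := Ideal.exists_le_maximal (Ideal.span {algebraMap O A π})
    (by rw [Ne, Ideal.span_singleton_eq_top]; exact hnu)
  let P' : PrimeSpectrum A := ⟨P, hPmax.isPrime⟩
  have hPc : (Spec.map (CommRingCat.ofHom (algebraMap O A))) P' = c₀ := by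
    refine PrimeSpectrum.ext ?_
    show P.comap (algebraMap O A) = maximalIdeal O
    refine le_antisymm (IsLocalRing.le_maximalIdeal (Ideal.comap_ne_top _ hPmax.ne_top)) ?_
    rw [hπ.maximalIdeal_eq, Ideal.span_le, Set.singleton_subset_iff]
    exact hPπ (Ideal.subset_span rfl)
  let c' : PrimeSpectrum (ResidueField O) := ⟨⊥, Ideal.isPrime_bot⟩
  have hres : (resPt O) c' = c₀ := PrimeSpectrum.ext (by
    show (⊥ : Ideal (ResidueField O)).comap (residue O) = maximalIdeal O
    exact IsLocalRing.ker_residue)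
  have hne : ∀ (y : G), p y = c₀ → ∃ z : ↥(pullback p (resPt O)), pullback.fst p (resPt O) z = y := fun y hy => by
    obtain ⟨z, hz, -⟩ := Scheme.Pullback.exists_preimage_pullback (f := p) (g := resPt O) y c' (hy.trans hres.symm)
    exact ⟨z, hz⟩
  have hyA : p (j P') = c₀ := by rw [← Scheme.Hom.comp_apply, hj, hPc]
  have hy₀ : p (e c₀) = c₀ := by rw [← Scheme.Hom.comp_apply, he]; rfl
  obtain ⟨z₁, hz₁⟩ := hne _ hyA
  obtain ⟨z₂, hz₂⟩ := hne _ hy₀
  obtain ⟨z, hzA, hz₀⟩ := nonempty_preirreducible_inter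
    (j.opensRange.2.preimage (pullback.fst p (resPt O)).continuous)
    (j₀.opensRange.2.preimage (pullback.fst p (resPt O)).continuous) ⟨z₁, by rw [Set.mem_preimage, hz₁]; exact ⟨P', rfl⟩⟩
    ⟨z₂, by rw [Set.mem_preimage, hz₂]; exact he₀⟩
  set y := pullback.fst p (resPt O) z with hy
  obtain ⟨A', _, _, jW, hjWi, hjW, hyW, hWsub⟩ :=
    exists_chart p (j.opensRange ⊓ j₀.opensRange) (y := y) ⟨hzA, hz₀⟩
  haveI := hjWi
  haveI := hflat (A := A') jW hjW
  have hnu' : ¬ IsUnit (algebraMap O A' π) := by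
    obtain ⟨Py, hPy⟩ := hyW
    refine not_isUnit_of_closed hπ Py ?_
    rw [← hjW, Scheme.Hom.comp_apply, hPy, hy, ← Scheme.Hom.comp_apply, pullback.condition, Scheme.Hom.comp_apply]
    rw [show (pullback.snd p (resPt O)) z = c' from PrimeSpectrum.ext (Ideal.eq_bot_of_prime _)]
    exact hres
  obtain ⟨φA, hφA⟩ := exists_algHom p j hj jW hjW (fun x hx => (hWsub hx).1)
  obtain ⟨φ₀, hφ₀⟩ := exists_algHom p j₀ hj₀ jW hjW (fun x hx => (hWsub hx).2)
  obtain ⟨a₁, ha₁⟩ := h₀ b b' hbb'
  obtain ⟨a₂, ha₂⟩ := h₀ b' b (by rw [mul_comm, hbb'])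
  have hA' : ∀ c a, valHom w hw j₀ hj₀ c = a ⊗ₜ[O] 1 → valHom w hw jW hjW c = φ₀ a ⊗ₜ[O] 1 := fun c a h => by
    rw [← valHom_comp w hw _ hj₀ φ₀ _ hjW hφ₀, h]; simp [genMap]
  exact mem_range_of_map π hπ (prime_of_chart hπ j hj hnu) hnu' φA _ (valHom w hw j hj b') (hmul j hj) (φ₀ a₁) (φ₀ a₂)
    ((valHom_comp w hw j hj φA _ hjW hφA b).trans (hA' b a₁ ha₁)) ((valHom_comp w hw j hj φA _ hjW hφA b').trans (hA' b' a₂ ha₂))

end Geom

end Groth.Agent.GenExt
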