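import Mathlib
import Groth.Agent.S7125

/-!
# Divisibility in flat algebras over normal domains
-/

set_option autoImplicit false
set_option linter.style.haveILetI false

universe u

open TensorProduct
open scoped TensorProduct

noncomputable section

namespace Groth.Agent.GenExt

variable {R : Type u} [CommRing R]

/-- An element of a flat algebra over a normal Noetherian domain is divisible by a scalar if it is so after
passing to faithfully flat extensions of the height one localisations. -/
theorem dvd_of_height_one [IsDomain R] [IsNoetherianRing R] [IsIntegrallyClosed R] {A : Type u} [CommRing A]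
    [Algebra R A] [Module.Flat R A] {c : R} (hc : c ≠ 0) (a : A)
    (h : ∀ (p : Ideal R) [p.IsPrime], p.height = 1 → c ∈ p →
      ∃ (O : Type u) (_ : CommRing O) (_ : Algebra R O), Module.Flat R O ∧
        (∃ Q : Ideal O, Q.IsPrime ∧ Q.comap (algebraMap R O) = p) ∧
        algebraMap A (A ⊗[R] O) (algebraMap R A c) ∣ algebraMap A (A ⊗[R] O) a) :
    algebraMap R A c ∣ a := by
  classical
  let ι := {p : PrimeSpectrum R // p.asIdeal.height = 1 ∧ c ∈ p.asIdeal}
  haveI : Finite ι := by
    haveI := ((Ideal.span {c}).finite_minimalPrimes_of_isNoetherianRing (R := R)).to_subtype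
    refine Finite.of_injective (β := ↥((Ideal.span {c}).minimalPrimes)) (fun p => ⟨p.1.asIdeal, ?_⟩) ?_
    · refine ⟨⟨p.1.isPrime, by rw [Ideal.span_le, Set.singleton_subset_iff]; exact p.2.2⟩, fun q hq hle => ?_⟩
      by_contra hne
      haveI := hq.1
      have hlt : q < p.1.asIdeal := lt_of_le_not_ge hle hne
      haveI : p.1.asIdeal.FiniteHeight := (Ideal.finiteHeight_iff _).2 (Or.inr (by rw [p.2.1]; exact ENat.one_ne_top))
      have h0 : q.height < 1 := by
        rw [← p.2.1]
        haveI : q.FiniteHeight := Ideal.finiteHeight_of_le hle p.1.isPrime.ne_top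
        exact Ideal.height_strict_mono_of_isPrime hlt
      rw [ENat.lt_one_iff_eq_zero, Ideal.height_eq_zero_iff_eq_bot] at h0
      exact hc (by simpa [h0] using hq.2 (Ideal.subset_span rfl))
    · intro p q hpq
      exact Subtype.ext (PrimeSpectrum.ext (congrArg Subtype.val hpq))
  choose O iO aO hflat Q hdvd using fun p : ι => h p.1.asIdeal p.2.1 p.2.2
  let Mod := fun p : ι => O p ⧸ Ideal.span {algebraMap R (O p) c}
  let j : (R ⧸ Ideal.span {c}) →ₗ[R] ((p : ι) → Mod p) := Submodule.liftQ _
    (LinearMap.pi fun p => (Ideal.Quotient.mkₐ R (Ideal.span {algebraMap R (O p) c})).toLinearMap ∘ₗ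
      Algebra.linearMap R (O p)) (by
    intro x hx
    obtain ⟨t, rfl⟩ := Ideal.mem_span_singleton'.1 hx
    ext p
    show Ideal.Quotient.mk _ (algebraMap R (O p) (t * c)) = 0
    rw [map_mul, Ideal.Quotient.eq_zero_iff_mem]
    exact Ideal.mem_span_singleton'.2 ⟨_, rfl⟩)
  have hj : Function.Injective j := by
    rw [← LinearMap.ker_eq_bot, eq_bot_iff]
    intro x hx
    obtain ⟨x, rfl⟩ := Submodule.Quotient.mk_surjective _ x
    rw [Submodule.mem_bot, Submodule.Quotient.mk_eq_zero, Ideal.mem_span_singleton]
    refine Groth.Agent.S7125.dvd_of_forall_height_one hc fun p hp hpht => ?_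
    by_cases hcp : c ∈ p
    · let i : ι := ⟨⟨p, hp⟩, hpht, hcp⟩
      have hxi : algebraMap R (O i) c ∣ algebraMap R (O i) x := by
        have := congrFun (show j (Submodule.Quotient.mk x) = 0 from hx) i
        exact Ideal.mem_span_singleton.1 (Ideal.Quotient.eq_zero_iff_mem.1 this)
      obtain ⟨Qi, hQi, hQc⟩ := Q i
      haveI := hflat i
      haveI : Qi.LiesOver p := ⟨hQc.symm⟩
      letI := Localization.AtPrime.algebraOfLiesOver p Qi
      haveI : Module.Flat (O i) (Localization.AtPrime Qi) := IsLocalization.flat _ Qi.primeCompl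
      haveI : Module.Flat R (Localization.AtPrime Qi) := Module.Flat.trans R (O i) _
      haveI : Module.Flat (Localization.AtPrime p) (Localization.AtPrime Qi) :=
        (Module.flat_iff_of_isLocalization (Localization.AtPrime p) p.primeCompl (Localization.AtPrime Qi)).2
          inferInstance
      haveI : IsLocalHom (algebraMap (Localization.AtPrime p) (Localization.AtPrime Qi)) :=
        Localization.isLocalHom_localRingHom p Qi (algebraMap R (O i)) Ideal.LiesOver.over
      haveI : Module.FaithfullyFlat (Localization.AtPrime p) (Localization.AtPrime Qi) :=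
        Module.FaithfullyFlat.of_flat_of_isLocalHom
      have h2 : algebraMap R (Localization.AtPrime p) x ∈ Ideal.span {algebraMap R (Localization.AtPrime p) c} := by
        rw [← Ideal.comap_map_eq_self_of_faithfullyFlat (B := Localization.AtPrime Qi)
          (Ideal.span {algebraMap R (Localization.AtPrime p) c}), Ideal.mem_comap, Ideal.map_span, Set.image_singleton,
          ← IsScalarTower.algebraMap_apply, ← IsScalarTower.algebraMap_apply, Ideal.mem_span_singleton,
          IsScalarTower.algebraMap_apply R (O i), IsScalarTower.algebraMap_apply R (O i) (Localization.AtPrime Qi)]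
        exact map_dvd _ hxi
      rw [Ideal.mem_span_singleton] at h2
      obtain ⟨y, hy⟩ := h2
      obtain ⟨⟨r, s⟩, hr⟩ := IsLocalization.surj p.primeCompl y
      have h3 : algebraMap R (Localization.AtPrime p) (s.1 * x) = algebraMap R (Localization.AtPrime p) (c * r) := by
        rw [map_mul, map_mul, hy, ← hr]; ring
      obtain ⟨t, ht⟩ := (IsLocalization.eq_iff_exists p.primeCompl _).1 h3
      exact ⟨t.1 * s.1, (t * s).2, ⟨t.1 * r, by rw [mul_assoc, ht]; ring⟩⟩
    · exact ⟨c, hcp, dvd_mul_right c x⟩
  have h1 : Function.Injective (j.lTensor A) := Module.Flat.lTensor_preserves_injective_linearMap j hj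
  have hzero : j.lTensor A (a ⊗ₜ[R] (Submodule.Quotient.mk 1 : R ⧸ Ideal.span {c})) = 0 := by
    haveI := Fintype.ofFinite ι
    apply (TensorProduct.piRight R R A Mod).injective
    rw [map_zero]
    ext p
    show a ⊗ₜ[R] (Ideal.Quotient.mk _ (algebraMap R (O p) 1) : Mod p) = 0
    rw [map_one]
    obtain ⟨z, hz⟩ := hdvd p
    let q : A ⊗[R] O p →ₗ[R] A ⊗[R] Mod p :=
      ((Ideal.Quotient.mkₐ R (Ideal.span {algebraMap R (O p) c})).toLinearMap).lTensor A
    have hq : ∀ z : A ⊗[R] O p, q (algebraMap A (A ⊗[R] O p) (algebraMap R A c) * z) = 0 := fun z => by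
      induction z using TensorProduct.induction_on with
      | zero => rw [mul_zero, map_zero]
      | tmul x y =>
        rw [Algebra.TensorProduct.algebraMap_apply, Algebra.algebraMap_self, RingHom.id_apply,
          Algebra.TensorProduct.tmul_mul_tmul, one_mul, ← Algebra.smul_def, smul_tmul, Algebra.smul_def]
        show x ⊗ₜ[R] (Ideal.Quotient.mk (Ideal.span {algebraMap R (O p) c}) (algebraMap R (O p) c * y)) = 0
        rw [Ideal.Quotient.eq_zero_iff_mem.2 (Ideal.mem_span_singleton.2 (dvd_mul_right _ _)), tmul_zero]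
      | add x y hx hy => rw [mul_add, map_add, hx, hy, add_zero]
    have := hq z
    rw [← hz] at this
    exact this
  rw [← map_zero (j.lTensor A)] at hzero
  have h3 : TensorProduct.tensorQuotEquivQuotSMul A (Ideal.span {c})
      (a ⊗ₜ[R] Ideal.Quotient.mk (Ideal.span {c}) 1) = 0 :=
    (congrArg (TensorProduct.tensorQuotEquivQuotSMul A (Ideal.span {c})) (h1 hzero)).trans (map_zero _)
  rw [TensorProduct.tensorQuotEquivQuotSMul_tmul_mk, one_smul] at h3
  have h4 : a ∈ Ideal.span {c} • (⊤ : Submodule R A) := (Submodule.Quotient.mk_eq_zero _).1 h3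
  rw [Submodule.ideal_span_singleton_smul, Submodule.mem_smul_pointwise_iff_exists] at h4
  obtain ⟨b, -, hb⟩ := h4
  exact ⟨b, by rw [← hb, Algebra.smul_def]⟩

end Groth.Agent.GenExt
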