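import Groth.Agent.GenExt.DVR
import Groth.Agent.NormalSch.Basic

/-!
# Charts and the generic fibre of a scheme over an integral base
-/

set_option autoImplicit false
set_option backward.isDefEq.respectTransparency false
set_option linter.style.haveILetI false

universe u

open TensorProduct CategoryTheory CategoryTheory.Limits AlgebraicGeometry IsLocalRing
open scoped TensorProduct

noncomputable section

namespace Groth.Agent.GenExt

variable {S : Scheme.{u}} [IsIntegral S]

/-- The generic point of the base, as a morphism. -/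
abbrev genS (S : Scheme.{u}) [IsIntegral S] : Spec (S.residueField (genericPoint S)) ⟶ S :=
  S.fromSpecResidueField (genericPoint S)

omit [IsIntegral S] in
theorem exists_point_factor {K : Type u} [Field K] (f : Spec (CommRingCat.of K) ⟶ S) {x : S}
    (h : f (closedPoint K) = x) :
    ∃ c : Spec (CommRingCat.of K) ⟶ Spec (S.residueField x), c ≫ S.fromSpecResidueField x = f := by
  subst h
  exact ⟨_, Scheme.descResidueField_stalkClosedPointTo_fromSpecResidueField K S f⟩

variable {R : Type u} [CommRing R] [IsDomain R] (gR : Spec (CommRingCat.of R) ⟶ S) [IsOpenImmersion gR]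

theorem gR_bot : gR (⟨⊥, Ideal.isPrime_bot⟩ : PrimeSpectrum R) = genericPoint S := by
  haveI : IsIntegral (Spec (CommRingCat.of R)) := inferInstance
  have h := genericPoint_eq_of_isOpenImmersion gR
  rwa [genericPoint_eq_bot_of_affine (CommRingCat.of R)] at h

/-- A field-valued point of an affine open of the base which is injective on functions lies over the generic point. -/
theorem exists_gen_factor {L : Type u} [Field L] (φ : R →+* L) (hφ : Function.Injective φ) :
    ∃ c : Spec (CommRingCat.of L) ⟶ Spec (S.residueField (genericPoint S)),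
      c ≫ genS S = Spec.map (CommRingCat.ofHom φ) ≫ gR := by
  refine exists_point_factor _ ?_
  rw [Scheme.Hom.comp_apply]
  refine (congrArg gR ?_).trans (gR_bot gR)
  refine PrimeSpectrum.ext ?_
  show (closedPoint L).asIdeal.comap φ = ⊥
  rw [show (closedPoint L).asIdeal = ⊥ from Ideal.eq_bot_of_prime _, ← RingHom.ker_eq_comap_bot]
  exact (RingHom.injective_iff_ker_eq_bot φ).1 hφ

omit [IsIntegral S] in
theorem isPreimmersion_genPt {R K : Type u} [CommRing R] [Field K] [Algebra R K] [IsFractionRing R K] :
    IsPreimmersion (genPt R K) :=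
  IsPreimmersion.of_isLocalization (R := R) (S := K) (nonZeroDivisors R)

theorem exists_gen_isPullback (K : Type u) [Field K] [Algebra R K] [IsFractionRing R K] :
    ∃ c : Spec (CommRingCat.of K) ⟶ Spec (S.residueField (genericPoint S)),
      IsPullback c (genPt R (K)) (genS S) gR := by
  obtain ⟨c, hc⟩ := exists_gen_factor gR _ (IsFractionRing.injective R (K))
  let l := IsOpenImmersion.lift gR (genS S) (by
    rw [Scheme.range_fromSpecResidueField, Set.singleton_subset_iff]
    exact ⟨_, gR_bot gR⟩)
  have hl : l ≫ gR = genS S := IsOpenImmersion.lift_fac _ _ _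
  let ρ : R →+* S.residueField (genericPoint S) := (Spec.preimage l).hom
  have hρl : Spec.map (CommRingCat.ofHom ρ) = l := Spec.map_preimage l
  have hρ : Function.Injective ρ := by
    rw [RingHom.injective_iff_ker_eq_bot]
    let pt := closedPoint (S.residueField (genericPoint S))
    have h1 : gR (l pt) = gR (⟨⊥, Ideal.isPrime_bot⟩ : PrimeSpectrum R) := by
      rw [← Scheme.Hom.comp_apply, hl, gR_bot gR]
      exact Scheme.fromSpecResidueField_apply _ _
    have h2 := gR.isOpenEmbedding.injective h1
    rw [← hρl] at h2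
    have h3 : pt.asIdeal.comap ρ = ⊥ := congrArg PrimeSpectrum.asIdeal h2
    rwa [show pt.asIdeal = ⊥ from Ideal.eq_bot_of_prime _, ← RingHom.ker_eq_comap_bot] at h3
  let d : Spec (S.residueField (genericPoint S)) ⟶ Spec (CommRingCat.of K) :=
    Spec.map (CommRingCat.ofHom (IsFractionRing.lift hρ))
  have hd : d ≫ genPt R (K) = l := by
    rw [← hρl, ← Spec.map_comp]
    congr 1
    ext r
    exact IsFractionRing.lift_algebraMap (A := R) (K := K) hρ r
  haveI : IsPreimmersion (genPt R (K)) := isPreimmersion_genPt (R := R) (K := K)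
  have hdc : d ≫ c = 𝟙 _ := by
    rw [← cancel_mono (genS S), Category.assoc, hc, ← Category.assoc, hd, hl, Category.id_comp]
  have hcd : c ≫ d = 𝟙 _ := by
    rw [← cancel_mono (genPt R (K)), Category.assoc, hd, Category.id_comp, ← cancel_mono gR,
      Category.assoc, hl, hc]
  refine ⟨c, IsPullback.mk' hc (fun T φ φ' h _ => ?_) fun T a b hab => ⟨a ≫ d, ?_, ?_⟩⟩
  · rw [← Category.comp_id φ, ← hcd, ← Category.assoc, h, Category.assoc, hcd, Category.comp_id]
  · rw [Category.assoc, hdc, Category.comp_id]
  · rw [Category.assoc, hd, ← cancel_mono gR, Category.assoc, hl, hab]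

/-- The generic fibre of a chart, inside the generic fibre. -/
theorem exists_genChart (K : Type u) [Field K] [Algebra R K] [IsFractionRing R K] {H : Scheme.{u}} (p : H ⟶ S) {A : Type u} [CommRing A] [Algebra R A]
    (j : Spec (CommRingCat.of A) ⟶ H) (hj : j ≫ p = Spec.map (CommRingCat.ofHom (algebraMap R A)) ≫ gR) :
    ∃ k : Spec (CommRingCat.of (A ⊗[R] K)) ⟶ pullback p (genS S),
      IsPullback k (Spec.map (CommRingCat.ofHom Algebra.TensorProduct.includeLeftRingHom)) (pullback.fst p (genS S)) j := by
  obtain ⟨c, hc⟩ := exists_gen_isPullback gR K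
  have h1 : IsPullback (Spec.map (CommRingCat.ofHom
      (Algebra.TensorProduct.includeRight : K →ₐ[R] A ⊗[R] K).toRingHom))
      (Spec.map (CommRingCat.ofHom Algebra.TensorProduct.includeLeftRingHom)) (genPt R (K))
      (Spec.map (CommRingCat.ofHom (algebraMap R A))) := by
    have h := IsPullback.of_hasPullback (Spec.map (CommRingCat.ofHom (algebraMap R A))) (genPt R (K))
    exact (IsPullback.of_iso h (pullbackSpecIso R A (K)) (Iso.refl _) (Iso.refl _) (Iso.refl _)
      (by simp) (by simp) (by simp) (by simp)).flip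
  have h2 := h1.paste_horiz hc
  rw [← hj] at h2
  let k := pullback.lift (Spec.map (CommRingCat.ofHom Algebra.TensorProduct.includeLeftRingHom) ≫ j)
    (Spec.map (CommRingCat.ofHom
      (Algebra.TensorProduct.includeRight : K →ₐ[R] A ⊗[R] K).toRingHom) ≫ c)
    (by rw [Category.assoc, ← h2.w, Category.assoc])
  refine ⟨k, IsPullback.of_right (h₁₂ := pullback.snd p (genS S)) (v₁₃ := genS S) (h₂₂ := p) ?_
    (pullback.lift_fst _ _ _) (IsPullback.of_hasPullback p (genS S)).flip⟩
  rw [pullback.lift_snd]
  exact h2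

omit [IsIntegral S] in
/-- Affine charts. -/
theorem exists_charts {H : Scheme.{u}} (p : H ⟶ S) [Flat p] [IsIntegral S] (x : H) :
    ∃ (R : Type u) (_ : CommRing R) (_ : IsDomain R) (g : Spec (CommRingCat.of R) ⟶ S) (A : Type u) (_ : CommRing A)
      (_ : Algebra R A) (j : Spec (CommRingCat.of A) ⟶ H),
      IsOpenImmersion g ∧ IsOpenImmersion j ∧ j ≫ p = Spec.map (CommRingCat.ofHom (algebraMap R A)) ≫ g ∧
      Module.Flat R A ∧ x ∈ Set.range j ∧ (IsLocallyNoetherian S → IsNoetherianRing R) ∧
      (Pi1.IsNormalScheme S → IsIntegrallyClosed R) := by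
  obtain ⟨V, hV, hxV, -⟩ := exists_isAffineOpen_mem_and_subset (x := p x) (U := ⊤) trivial
  obtain ⟨W, hW, hxW, hWV⟩ := exists_isAffineOpen_mem_and_subset (x := x) (U := p ⁻¹ᵁ V) hxV
  haveI : Nonempty V := ⟨⟨p x, hxV⟩⟩
  let f : CommRingCat.of Γ(S, V) ⟶ CommRingCat.of Γ(H, W) := p.appLE V W hWV
  letI : Algebra Γ(S, V) Γ(H, W) := f.hom.toAlgebra
  refine ⟨Γ(S, V), inferInstance, inferInstance, hV.fromSpec, Γ(H, W), inferInstance, inferInstance, hW.fromSpec,
    inferInstance, inferInstance, ?_, ?_, ?_, fun hN => ?_, fun hn => NormalSch.isIntegrallyClosed_section hn V⟩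
  · exact (IsAffineOpen.SpecMap_appLE_fromSpec p hV hW hWV).symm
  · exact RingHom.flat_algebraMap_iff.1 (HasRingHomProperty.appLE (P := @Flat) p ‹_› ⟨V, hV⟩ ⟨W, hW⟩ hWV)
  · exact hW.range_fromSpec.symm ▸ hxW
  · exact IsLocallyNoetherian.component_noetherian ⟨V, hV⟩

omit [IsIntegral S] in
/-- Two maps out of a flat algebra into an affine scheme agree if they agree generically. -/
theorem affine_hom_ext {K : Type u} [Field K] [Algebra R K] [IsFractionRing R K] {A : Type u} [CommRing A] [Algebra R A]
    [Module.Flat R A] {P : Scheme.{u}} [IsAffine P] (f g : Spec (CommRingCat.of A) ⟶ P)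
    (h : Spec.map (CommRingCat.ofHom (Algebra.TensorProduct.includeLeftRingHom : A →+* A ⊗[R] K)) ≫ f =
      Spec.map (CommRingCat.ofHom (Algebra.TensorProduct.includeLeftRingHom : A →+* A ⊗[R] K)) ≫ g) : f = g := by
  rw [← cancel_mono P.isoSpec.hom]
  obtain ⟨φ, hφ⟩ := Spec.map_surjective (f ≫ P.isoSpec.hom)
  obtain ⟨ψ, hψ⟩ := Spec.map_surjective (g ≫ P.isoSpec.hom)
  have h' := congrArg (· ≫ P.isoSpec.hom) h
  simp only [Category.assoc] at h'
  rw [← hφ, ← hψ, ← Spec.map_comp, ← Spec.map_comp] at h'
  rw [← hφ, ← hψ]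
  congr 1
  ext a
  exact include_injective (R := R) (L := K) A (congrArg (fun r => r.hom a) (Spec.map_injective h'))

/-- Morphisms from a flat scheme to an affine one over an integral base agree if they agree on the generic fibre. -/
theorem hom_ext_generic {X T : Over S} [Flat X.hom] [IsAffineHom T.hom] (f g : X ⟶ T)
    (h : pullback.fst X.hom (genS S) ≫ f.left = pullback.fst X.hom (genS S) ≫ g.left) : f = g := by
  apply Over.OverMorphism.ext
  choose R iR iD gR A iA aA j hgR hj hjp hfl hx hN hn using exists_charts X.hom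
  let 𝒰 : X.left.OpenCover := Scheme.Cover.mkOfCovers X.left (fun x => Spec (CommRingCat.of (A x))) j
    (fun x => ⟨x, hx x⟩) (fun x => hj x)
  refine Scheme.Cover.hom_ext 𝒰 _ _ fun x => ?_
  show j x ≫ f.left = j x ≫ g.left
  haveI := hgR x
  haveI := hfl x
  haveI : IsAffineHom (pullback.snd T.hom (gR x)) := inferInstance
  haveI : IsAffine (pullback T.hom (gR x)) := isAffine_of_isAffineHom (pullback.snd T.hom (gR x))
  let F : ∀ u : X ⟶ T, Spec (CommRingCat.of (A x)) ⟶ pullback T.hom (gR x) := fun u =>
    pullback.lift (j x ≫ u.left) (Spec.map (CommRingCat.ofHom (algebraMap (R x) (A x))))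
      (by rw [Category.assoc, Over.w u]; exact hjp x)
  have hF : F f = F g := by
    refine affine_hom_ext (R := R x) (K := FractionRing (R x)) _ _ ?_
    obtain ⟨k, hk⟩ := exists_genChart (gR x) (FractionRing (R x)) X.hom (j x) (hjp x)
    apply pullback.hom_ext
    · simp only [F, Category.assoc, pullback.lift_fst]
      rw [← reassoc_of% hk.w, ← reassoc_of% hk.w, h]
    · simp only [F, Category.assoc, pullback.lift_snd]
  have := congrArg (· ≫ pullback.fst _ _) hF
  simpa [F] using this

end Groth.Agent.GenExt
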