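import Groth.Agent.GenExt.Main
import Groth.Agent.AVLib.GeomInt

/-!
# Gluing the extensions from the generic fibre
-/

set_option autoImplicit false
set_option backward.isDefEq.respectTransparency false
set_option backward.isDefEq.respectTransparency.types false
set_option linter.style.haveILetI false
set_option linter.unusedSectionVars false

universe u

open CategoryTheory CategoryTheory.Limits MonoidalCategory CartesianMonoidalCategory MonObj AlgebraicGeometry
open CategoryTheory.Functor
open TensorProduct
open scoped TensorProduct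

noncomputable section

namespace Groth.Agent.GenExt

variable {S : Scheme.{u}} [IsIntegral S]

/-- A map on the generic fibre to a group of multiplicative type extends over a normal base. -/
theorem exists_extend_over [IsLocallyNoetherian S] (hnor : Pi1.IsNormalScheme S)
    {H T : Over S} [Flat H.hom] [GeometricallyIntegral H.hom]
    [GrpObj T] [IsAffineHom T.hom] (hT : SGA3x.IsMultTypeFT T) (eH : 𝟙_ (Over S) ⟶ H)
    (v : pullback H.hom (genS S) ⟶ T.left) (hv : v ≫ T.hom = pullback.fst _ _ ≫ H.hom)
    (hve : pullback.lift (genS S ≫ eH.left) (𝟙 _) (by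
      rw [Category.assoc, Over.w eH, Category.id_comp]; exact Category.comp_id _) ≫ v = genS S ≫ η[T].left) :
    ∃ u : H ⟶ T, pullback.fst H.hom (genS S) ≫ u.left = v := by
  choose R iR iD gR A iA aA j hgR hj hjp hfl hx hN hn using exists_charts H.hom
  have hex : ∀ x, ∃ f : Spec (CommRingCat.of (A x)) ⟶ T.left, f ≫ T.hom = j x ≫ H.hom ∧
      ∀ {Z : Scheme.{u}} (q : Z ⟶ Spec (CommRingCat.of (A x))) (q' : Z ⟶ pullback H.hom (genS S)),
        q' ≫ pullback.fst _ _ = q ≫ j x → q ≫ f = q' ≫ v := fun x => by
    haveI := hgR x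
    haveI := hj x
    haveI := hfl x
    haveI := hN x ‹_›
    haveI := hn x hnor
    obtain ⟨f, hf, hfk⟩ := exists_extend_chart hT eH v hv hve (FractionRing (R x)) (gR x) (j x) (hjp x)
    refine ⟨f, hf, fun {Z} q q' hq => ?_⟩
    obtain ⟨k, hk⟩ := exists_genChart (gR x) (FractionRing (R x)) H.hom (j x) (hjp x)
    have h := hk.lift_fst q' q hq
    rw [← hk.lift_snd q' q hq, Category.assoc, hfk k hk.w, reassoc_of% h]
  choose f hf hfq using hex
  let 𝒰 : H.left.OpenCover := Scheme.Cover.mkOfCovers H.left (fun x => Spec (CommRingCat.of (A x))) j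
    (fun x => ⟨x, hx x⟩) (fun x => hj x)
  have compat : ∀ x y : H.left, pullback.fst (j x) (j y) ≫ f x = pullback.snd (j x) (j y) ≫ f y := fun x y => by
    haveI := hj x
    haveI := hj y
    let X : Over S := Over.mk (pullback.fst (j x) (j y) ≫ j x ≫ H.hom)
    haveI : Flat X.hom := inferInstanceAs (Flat (pullback.fst (j x) (j y) ≫ j x ≫ H.hom))
    let f₁ : X ⟶ T := Over.homMk (pullback.fst (j x) (j y) ≫ f x) (by simp [X, hf])
    let f₂ : X ⟶ T := Over.homMk (pullback.snd (j x) (j y) ≫ f y) (by simp [X, hf, pullback.condition_assoc])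
    refine congrArg (fun g : X ⟶ T => g.left) (hom_ext_generic f₁ f₂ ?_)
    show pullback.fst X.hom (genS S) ≫ pullback.fst (j x) (j y) ≫ f x =
      pullback.fst X.hom (genS S) ≫ pullback.snd (j x) (j y) ≫ f y
    let q' : pullback X.hom (genS S) ⟶ pullback H.hom (genS S) :=
      pullback.lift (pullback.fst X.hom (genS S) ≫ pullback.fst (j x) (j y) ≫ j x) (pullback.snd _ _) (by
        simp only [Category.assoc]
        exact pullback.condition)
    rw [← Category.assoc, ← Category.assoc, hfq x _ q' (by simp [q']),
      hfq y _ q' (by simp [q', pullback.condition])]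
  let u : H.left ⟶ T.left := Scheme.Cover.glueMorphisms 𝒰 f compat
  have hu : ∀ x, j x ≫ u = f x := fun x => Scheme.Cover.ι_glueMorphisms 𝒰 f compat x
  have huT : u ≫ T.hom = H.hom := by
    refine Scheme.Cover.hom_ext 𝒰 _ _ fun x => ?_
    show j x ≫ u ≫ T.hom = j x ≫ H.hom
    rw [reassoc_of% hu x, hf]
  refine ⟨Over.homMk u huT, ?_⟩
  show pullback.fst H.hom (genS S) ≫ u = v
  refine Scheme.Cover.hom_ext (Precoverage.ZeroHypercover.pullback₁ (pullback.fst H.hom (genS S)) 𝒰) _ _ fun x => ?_
  show pullback.fst (pullback.fst H.hom (genS S)) (j x) ≫ pullback.fst H.hom (genS S) ≫ u =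
    pullback.fst (pullback.fst H.hom (genS S)) (j x) ≫ v
  rw [pullback.condition_assoc, hu x]
  exact hfq x _ _ pullback.condition

/-- A homomorphism of generic fibres into a group of multiplicative type extends over a normal base. -/
theorem exists_hom_extends [IsLocallyNoetherian S] (hnor : Pi1.IsNormalScheme S)
    {H T : Over S} [GrpObj H] [GrpObj T] [Flat H.hom] [GeometricallyIntegral H.hom] [IsAffineHom T.hom]
    (hT : SGA3x.IsMultTypeFT T)
    (uη : Red.bc (genS S) H ⟶ Red.bc (genS S) T) [IsMonHom uη] :
    ∃ u : H ⟶ T, IsMonHom u ∧ (Over.pullback (genS S)).map u = uη := by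
  let F := Over.pullback (genS S)
  have hv : (uη.left ≫ pullback.fst T.hom (genS S)) ≫ T.hom = pullback.fst _ _ ≫ H.hom := by
    rw [Category.assoc, pullback.condition, ← Category.assoc, pullback.condition]
    exact congrArg (· ≫ genS S) (Over.w uη)
  have hone : ∀ (G : Over S) [GrpObj G], (η[F.obj G] : _ ⟶ F.obj G).left =
      pullback.lift (genS S ≫ η[G].left) (𝟙 _) (by
        rw [Category.assoc, Over.w η[G], Category.id_comp]; exact Category.comp_id _) := fun G _ => by
    rw [Functor.obj.η_def, Over.comp_left, Over.ε_pullback_left, IsIso.inv_comp_eq]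
    apply pullback.hom_ext
    · simp only [F, Over.pullback_map_left, pullback.lift_fst, Category.assoc]
      rw [← pullback.condition_assoc]
      simp
    · simp only [F, Over.pullback_map_left, pullback.lift_snd, Category.assoc]
      exact (Category.comp_id _).symm
  have hve : pullback.lift (genS S ≫ η[H].left) (𝟙 _) (by
      rw [Category.assoc, Over.w η[H], Category.id_comp]; exact Category.comp_id _) ≫
      (uη.left ≫ pullback.fst T.hom (genS S)) = genS S ≫ η[T].left := by
    rw [← hone H, ← Category.assoc]
    rw [show (η[F.obj H] : _ ⟶ F.obj H).left ≫ uη.left = (η[F.obj T] : _ ⟶ F.obj T).left from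
      congrArg (fun g => Over.Hom.left g) (IsMonHom.one_hom uη), hone T, pullback.lift_fst]
  obtain ⟨u, hu⟩ := exists_extend_over hnor hT η[H] _ hv hve
  have hmap : F.map u = uη := by
    apply Over.OverMorphism.ext
    apply pullback.hom_ext
    · simp [F, hu]
    · simpa [F] using (Over.w uη).symm
  have hext : ∀ {X : Over S} [Flat X.hom] (g g' : X ⟶ T), F.map g = F.map g' → g = g' := fun {X} _ g g' h => by
    refine hom_ext_generic g g' ?_
    have := congrArg (fun m => Over.Hom.left m ≫ pullback.fst T.hom (genS S)) h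
    simpa [F] using this
  haveI : Flat (𝟙_ (Over S)).hom := inferInstanceAs (Flat (𝟙 S))
  haveI : Flat (H ⊗ H).hom := inferInstanceAs (Flat (pullback.fst H.hom H.hom ≫ H.hom))
  haveI hmon : IsMonHom (F.map u) := hmap ▸ ‹IsMonHom uη›
  refine ⟨u, ⟨?_, ?_⟩, hmap⟩
  · refine hext _ _ ?_
    have h := IsMonHom.one_hom (F.map u)
    rw [Functor.obj.η_def, Functor.obj.η_def, Category.assoc, ← F.map_comp, cancel_epi] at h
    exact h
  · refine hext _ _ ?_
    have h := IsMonHom.mul_hom (F.map u)
    rw [Functor.obj.μ_def, Functor.obj.μ_def, Category.assoc, ← F.map_comp, Functor.LaxMonoidal.μ_natural_assoc,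
      ← F.map_comp, cancel_epi] at h
    exact h

end Groth.Agent.GenExt

namespace Groth.Agent.GenExt

/-- A smooth group scheme with geometrically connected fibres is geometrically integral. -/
theorem geometricallyIntegral_of_smooth_grp {S : Scheme.{u}} (X : Over S) [GrpObj X] [Smooth X.hom]
    [GeometricallyConnected X.hom] : GeometricallyIntegral X.hom := by
  refine ⟨fun L _ y Z fst' snd' H => ?_⟩
  let G := Red.bc y X
  haveI : Smooth G.hom := MorphismProperty.pullback_snd X.hom y ‹Smooth X.hom›
  haveI : GeometricallyConnected G.hom := MorphismProperty.pullback_snd X.hom y ‹GeometricallyConnected X.hom›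
  haveI : GeometricallyIntegral G.hom := AVLib.geometricallyIntegral_of_smooth G
  haveI : Subsingleton ↥(Spec (CommRingCat.of L)) := inferInstanceAs (Subsingleton (PrimeSpectrum L))
  haveI : IsIntegral (pullback X.hom y) := GeometricallyIntegral.isIntegral_of_subsingleton G.hom
  exact .of_isIso H.isoPullback.inv

end Groth.Agent.GenExt
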