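import Groth.Agent.GenExt.Gen
import Groth.Agent.GenExt.Flat
import Groth.Agent.MultBridge.Chart
import Groth.Agent.MultKer.Descend
import Groth.Agent.FixedSmooth.Props
import Groth.Agent.PurityLib.BranchPoint
import Groth.Agent.Depth.FlatLocal

/-!
# Extending maps into groups of multiplicative type from the generic fibre of a normal base
-/

set_option autoImplicit false
set_option backward.isDefEq.respectTransparency false
set_option backward.isDefEq.respectTransparency.types false
set_option linter.style.haveILetI false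
set_option linter.unusedSectionVars false

universe u

open CategoryTheory CategoryTheory.Limits MonoidalCategory CartesianMonoidalCategory MonObj AlgebraicGeometry
open TensorProduct IsLocalRing
open scoped TensorProduct

noncomputable section

namespace Groth.Agent.GenExt

open TorusField

theorem adjoin_units_of_isDiag {R : Type u} [CommRing R] {B : Type u} [CommRing B] [HopfAlgebra R B]
    {E O : Type u} [CommRing E] [Algebra R E] [CommRing O] [Algebra R O] [Algebra E O] [IsScalarTower R E O]
    (h : SGA3b.IsDiag E (E ⊗[R] B)) : Algebra.adjoin O {b : O ⊗[R] B | IsUnit b} = ⊤ := by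
  obtain ⟨M, _, ⟨e⟩⟩ := h
  let A' : Subalgebra O (O ⊗[R] B) := Algebra.adjoin O {b : O ⊗[R] B | IsUnit b}
  let ψ : E ⊗[R] B →+* O ⊗[R] B :=
    (Algebra.TensorProduct.map (IsScalarTower.toAlgHom R E O) (AlgHom.id R B)).toRingHom
  let ρ : MonoidAlgebra E M →+* O ⊗[R] B :=
    ψ.comp ((e.symm : MonoidAlgebra E M →ₐc[E] E ⊗[R] B) : MonoidAlgebra E M →ₐ[E] E ⊗[R] B).toRingHom
  have hρ : ∀ z, ρ z ∈ A' := by
    intro z
    induction z using MonoidAlgebra.induction_linear with
    | zero => rw [map_zero]; exact zero_mem _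
    | add a b ha hb => rw [map_add]; exact add_mem ha hb
    | single m r =>
      rw [show (MonoidAlgebra.single m r : MonoidAlgebra E M) = algebraMap E _ r * MonoidAlgebra.single m 1 by
        rw [← Algebra.smul_def]; simp, map_mul]
      refine mul_mem ?_ (Algebra.subset_adjoin ?_)
      · have : ρ (algebraMap E _ r) = algebraMap O (O ⊗[R] B) (algebraMap E O r) := by
          simp only [ρ, RingHom.comp_apply]
          rw [show ((e.symm : MonoidAlgebra E M →ₐc[E] E ⊗[R] B) : MonoidAlgebra E M →ₐ[E] E ⊗[R] B).toRingHom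
            (algebraMap E _ r) = algebraMap E (E ⊗[R] B) r from AlgHom.commutes _ r]
          simp [ψ]
        rw [this]
        exact A'.algebraMap_mem _
      · refine (?_ : IsUnit (MonoidAlgebra.single m (1 : E))).map ρ
        exact (Group.isUnit m).map (MonoidAlgebra.of E M)
  have hb : ∀ b : B, (1 : O) ⊗ₜ[R] b ∈ A' := fun b => by
    have h := hρ (e ((1 : E) ⊗ₜ[R] b))
    have h' : ρ (e ((1 : E) ⊗ₜ[R] b)) = ψ (e.symm (e ((1 : E) ⊗ₜ[R] b))) := rfl
    rw [h', e.symm_apply_apply] at h
    simpa [ψ] using h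
  refine eq_top_iff.2 fun z _ => ?_
  induction z using TensorProduct.induction_on with
  | zero => exact zero_mem _
  | tmul o b =>
    rw [show o ⊗ₜ[R] b = o • ((1 : O) ⊗ₜ[R] b) by rw [TensorProduct.smul_tmul', smul_eq_mul, _root_.mul_one]]
    exact Subalgebra.smul_mem _ (hb b) o
  | add a b ha hb => exact add_mem (ha trivial) (hb trivial)

/-- An étale algebra has discrete valuation rings over height one primes. -/
theorem isDVR_of_etale {R E : Type u} [CommRing R] [IsDomain R] [IsNoetherianRing R] [IsIntegrallyClosed R]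
    [CommRing E] [Algebra R E] [Algebra.Etale R E] (p : Ideal R) [p.IsPrime] (hp : p.height = 1)
    (Q : Ideal E) [Q.IsPrime] (hQ : Q.comap (algebraMap R E) = p) :
    ∃ _ : IsDomain (Localization.AtPrime Q), IsDiscreteValuationRing (Localization.AtPrime Q) := by
  haveI : Q.LiesOver p := ⟨hQ.symm⟩
  haveI := Groth.Agent.S7125.isDVR_of_height_one p hp
  obtain ⟨hd, hr⟩ := PurityLib.dim_regular_of_etale p Q
  haveI : IsNoetherianRing E := Algebra.FiniteType.isNoetherianRing R E
  haveI : IsNoetherianRing (Localization.AtPrime Q) := IsLocalization.isNoetherianRing Q.primeCompl _ inferInstance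
  refine (Depth.exists_isDVR_iff).2 ⟨hr.2 inferInstance, ?_⟩
  rw [hd]
  exact IsDiscreteValuationRing.ringKrullDim_eq_one _

variable {S : Scheme.{u}} [IsIntegral S]

set_option maxHeartbeats 1000000 in
/-- Divisibility after passing to a split discrete valuation ring. -/
theorem chart_dvd {H T : Over S} [Flat H.hom] [GeometricallyIntegral H.hom]
    [GrpObj T] {R : Type u} [CommRing R] [IsDomain R]
    {K : Type u} [Field K] [Algebra R K] [IsFractionRing R K]
    {gR : Spec (CommRingCat.of R) ⟶ S} [IsOpenImmersion gR]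
    {A : Type u} [CommRing A] [Algebra R A] [Module.Flat R A]
    {j : Spec (CommRingCat.of A) ⟶ H.left} [IsOpenImmersion j]
    (hj : j ≫ H.hom = Spec.map (CommRingCat.ofHom (algebraMap R A)) ≫ gR) (eH : 𝟙_ (Over S) ⟶ H)
    (v : pullback H.hom (genS S) ⟶ T.left) (hv : v ≫ T.hom = pullback.fst _ _ ≫ H.hom)
    (hve : pullback.lift (genS S ≫ eH.left) (𝟙 _) (by
      rw [Category.assoc, Over.w eH, Category.id_comp]; exact Category.comp_id _) ≫ v = genS S ≫ η[T].left)
    {B : Type u} [CommRing B] [Algebra R B] (isoB : Spec (CommRingCat.of B) ⟶ pullback T.hom gR) [IsIso isoB]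
    (hisoB : isoB ≫ pullback.snd T.hom gR = Spec.map (CommRingCat.ofHom (algebraMap R B)))
    {O : Type u} [CommRing O] [IsDomain O] [IsDiscreteValuationRing O] [Algebra R O] [Module.Flat R O]
    (L : Type u) [Field L] [Algebra O L] [IsFractionRing O L]
    (hB : Algebra.adjoin O {b : O ⊗[R] B | IsUnit b} = ⊤) (hinj : Function.Injective (algebraMap R O))
    (k : Spec (CommRingCat.of (A ⊗[R] K)) ⟶ pullback H.hom (genS S))
    (hk : k ≫ pullback.fst _ _ = Spec.map (CommRingCat.ofHom Algebra.TensorProduct.includeLeftRingHom) ≫ j)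
    (vR : Spec (CommRingCat.of (A ⊗[R] K)) ⟶ Spec (CommRingCat.of B))
    (hvR : vR ≫ isoB ≫ pullback.fst T.hom gR = k ≫ v)
    (hvR' : vR ≫ Spec.map (CommRingCat.ofHom (algebraMap R B)) =
      Spec.map (CommRingCat.ofHom Algebra.TensorProduct.includeLeftRingHom) ≫
        Spec.map (CommRingCat.ofHom (algebraMap R A)))
    (ψ : B →+* A ⊗[R] K) (hψ : ψ = (Spec.preimage vR).hom)
    (b : B) (a : A) (c : R) (hu : ψ b * (1 ⊗ₜ[R] algebraMap R K c) = a ⊗ₜ[R] 1) :
    algebraMap A (A ⊗[R] O) (algebraMap R A c) ∣ algebraMap A (A ⊗[R] O) a := by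
  let gRO : Spec (CommRingCat.of O) ⟶ Spec (CommRingCat.of R) := Spec.map (CommRingCat.ofHom (algebraMap R O))
  let gO : Spec (CommRingCat.of O) ⟶ S := gRO ≫ gR
  let p : pullback H.hom gO ⟶ Spec (CommRingCat.of O) := pullback.snd H.hom gO
  haveI : IsIntegral (pullback p (resPt O)) := by
    haveI : IsIntegral (pullback H.hom (resPt O ≫ gO)) :=
      GeometricallyIntegral.geometrically_isIntegral _ _ _ (IsPullback.of_hasPullback _ _)
    exact .of_isIso (pullbackLeftPullbackSndIso H.hom gO (resPt O)).inv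
  let e : Spec (CommRingCat.of O) ⟶ pullback H.hom gO := pullback.lift (gO ≫ eH.left) (𝟙 _) (by
    rw [Category.assoc, Over.w eH, Category.id_comp]; exact Category.comp_id _)
  have he : e ≫ p = 𝟙 _ := pullback.lift_snd _ _ _
  obtain ⟨cL, hcL⟩ := exists_gen_factor gR ((algebraMap O L).comp (algebraMap R O))
    ((IsFractionRing.injective O L).comp hinj)
  have hcL' : cL ≫ genS S = genPt O L ≫ gO := by
    rw [hcL]; simp only [gO, gRO, ← Spec.map_comp_assoc]; rfl
  have hpc : ∀ {Z : Scheme.{u}} (z : Z ⟶ pullback p (genPt O L)),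
      (z ≫ pullback.fst _ _ ≫ pullback.fst H.hom gO) ≫ H.hom = (z ≫ pullback.snd _ _ ≫ cL) ≫ genS S := fun z => by
    simp only [Category.assoc, hcL']
    rw [pullback.condition, ← pullback.condition_assoc]
  let toH : pullback p (genPt O L) ⟶ pullback H.hom (genS S) :=
    pullback.lift (pullback.fst _ _ ≫ pullback.fst H.hom gO) (pullback.snd _ _ ≫ cL) (by simpa using hpc (𝟙 _))
  have hwT : (toH ≫ v) ≫ T.hom = (pullback.fst p (genPt O L) ≫ p ≫ gRO) ≫ gR := by
    rw [Category.assoc, hv, pullback.lift_fst_assoc, Category.assoc, pullback.condition]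
    simp only [Category.assoc]
    rfl
  let wB : pullback p (genPt O L) ⟶ Spec (CommRingCat.of B) :=
    pullback.lift (toH ≫ v) (pullback.fst p (genPt O L) ≫ p ≫ gRO) hwT ≫ inv isoB
  have hwB : wB ≫ Spec.map (CommRingCat.ofHom (algebraMap R B)) = pullback.fst p (genPt O L) ≫ p ≫ gRO := by
    show (_ ≫ inv isoB) ≫ _ = _
    rw [← hisoB, Category.assoc, IsIso.inv_hom_id_assoc, pullback.lift_snd]
  have hwB₁ : wB ≫ isoB ≫ pullback.fst T.hom gR = toH ≫ v := by
    show (_ ≫ inv isoB) ≫ _ = _
    rw [Category.assoc, IsIso.inv_hom_id_assoc, pullback.lift_fst]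
  let w : pullback p (genPt O L) ⟶ Spec (CommRingCat.of (O ⊗[R] B)) :=
    pullback.lift (pullback.fst p (genPt O L) ≫ p) wB (by rw [hwB, Category.assoc]) ≫ (pullbackSpecIso R O B).hom
  have hw : w ≫ Spec.map (CommRingCat.ofHom (algebraMap O (O ⊗[R] B))) = pullback.fst _ _ ≫ p := by
    show (_ ≫ _) ≫ _ = _
    rw [Category.assoc, pullbackSpecIso_hom_fst', pullback.lift_fst]
  have hwR : w ≫ Spec.map (CommRingCat.ofHom
      ((Algebra.TensorProduct.includeRight : B →ₐ[R] O ⊗[R] B) : B →+* O ⊗[R] B)) = wB := by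
    show (_ ≫ _) ≫ _ = _
    rw [Category.assoc, pullbackSpecIso_hom_snd, pullback.lift_snd]
  let secR : Spec (CommRingCat.of R) ⟶ Spec (CommRingCat.of B) :=
    pullback.lift (gR ≫ η[T].left) (𝟙 _) (by
      rw [Category.assoc, Over.w η[T], Category.id_comp]; exact Category.comp_id _) ≫ inv isoB
  let σB : B →ₐ[R] R :=
    { (Spec.preimage secR).hom with
      commutes' := fun r => by
        have h : CommRingCat.ofHom (algebraMap R B) ≫ Spec.preimage secR = 𝟙 (CommRingCat.of R) := by
          apply Spec.map_injective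
          rw [Spec.map_comp, Spec.map_preimage, ← hisoB, Spec.map_id]
          show (_ ≫ inv isoB) ≫ _ = _
          rw [Category.assoc, IsIso.inv_hom_id_assoc, pullback.lift_snd]
        exact congrArg (fun f : CommRingCat.of R ⟶ CommRingCat.of R => f.hom r) h }
  let σ : O ⊗[R] B →ₐ[O] O :=
    Algebra.TensorProduct.lift (AlgHom.id O O) ((Algebra.ofId R O).comp σB) (fun _ _ => Commute.all _ _)
  have hσ₁ : Spec.map (CommRingCat.ofHom σ.toRingHom) ≫ Spec.map (CommRingCat.ofHom (algebraMap O (O ⊗[R] B))) =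
      𝟙 _ := by
    rw [← Spec.map_comp, ← Spec.map_id]
    congr 1
    ext o
    exact σ.commutes o
  have hσ₂ : Spec.map (CommRingCat.ofHom σ.toRingHom) ≫ Spec.map (CommRingCat.ofHom
      ((Algebra.TensorProduct.includeRight : B →ₐ[R] O ⊗[R] B) : B →+* O ⊗[R] B)) = gRO ≫ secR := by
    rw [← Spec.map_preimage secR, ← Spec.map_comp]
    show _ = Spec.map _ ≫ Spec.map _
    rw [← Spec.map_comp]
    congr 1
    ext x
    show σ ((1 : O) ⊗ₜ[R] x) = algebraMap R O ((Spec.preimage secR).hom x)
    simp [σ, σB]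
  let eL : Spec (CommRingCat.of L) ⟶ pullback p (genPt O L) :=
    pullback.lift (genPt O L ≫ e) (𝟙 _) (by rw [Category.assoc, he, Category.comp_id, Category.id_comp])
  have heL : eL ≫ pullback.fst p (genPt O L) = genPt O L ≫ e := pullback.lift_fst _ _ _
  have heL' : eL ≫ pullback.snd p (genPt O L) = 𝟙 _ := pullback.lift_snd _ _ _
  have hto : eL ≫ toH = cL ≫ pullback.lift (genS S ≫ eH.left) (𝟙 _) (by
      rw [Category.assoc, Over.w eH, Category.id_comp]; exact Category.comp_id _) := by
    rw [← cancel_mono (pullback.fst H.hom (genS S))]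
    simp only [Category.assoc, toH, pullback.lift_fst, reassoc_of% heL, e, reassoc_of% hcL']
  have hsec₁ : secR ≫ isoB ≫ pullback.fst T.hom gR = gR ≫ η[T].left := by
    show (_ ≫ inv isoB) ≫ _ = _
    rw [Category.assoc, IsIso.inv_hom_id_assoc, pullback.lift_fst]
  have hsec₂ : secR ≫ Spec.map (CommRingCat.ofHom (algebraMap R B)) = 𝟙 _ := by
    show (_ ≫ inv isoB) ≫ _ = _
    rw [← hisoB, Category.assoc, IsIso.inv_hom_id_assoc, pullback.lift_snd]
  have hwe : eL ≫ w = genPt O L ≫ Spec.map (CommRingCat.ofHom σ.toRingHom) := by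
    rw [← cancel_mono (pullbackSpecIso R O B).inv]
    apply pullback.hom_ext
    · simp only [Category.assoc, pullbackSpecIso_inv_fst']
      rw [hw, reassoc_of% heL, he, hσ₁]
    · simp only [Category.assoc, pullbackSpecIso_inv_snd]
      rw [hwR, hσ₂, ← cancel_mono isoB]
      apply pullback.hom_ext
      · simp only [Category.assoc]
        rw [hwB₁, hsec₁, reassoc_of% hto, hve, reassoc_of% hcL']
        simp only [gO, Category.assoc]
      · simp only [Category.assoc, hisoB]
        rw [hwB, hsec₂, reassoc_of% heL, reassoc_of% he, Category.comp_id]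
  -- the chart
  let m : pullback gRO (Spec.map (CommRingCat.ofHom (algebraMap R A))) ⟶ pullback H.hom gO :=
    pullback.lift (pullback.snd _ _ ≫ j) (pullback.fst _ _) (by
      rw [Category.assoc, hj, ← pullback.condition_assoc])
  haveI : IsOpenImmersion m := by
    refine MorphismProperty.of_isPullback (f' := pullback.snd gRO (Spec.map (CommRingCat.ofHom (algebraMap R A))))
      (f := pullback.fst H.hom gO) (g := j) ?_ ‹IsOpenImmersion j›
    refine IsPullback.flip (IsPullback.of_right (h₁₂ := pullback.snd H.hom gO) (v₁₃ := gO) (h₂₂ := H.hom) ?_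
      (pullback.lift_fst _ _ _) (IsPullback.of_hasPullback H.hom gO).flip)
    rw [pullback.lift_snd, hj]
    refine IsPullback.mk' ?_ (fun T' φ φ' h h' => pullback.hom_ext h h') fun T' a b hab => ?_
    · rw [← pullback.condition_assoc]
    · have hab' : a ≫ gRO = b ≫ Spec.map (CommRingCat.ofHom (algebraMap R A)) := by
        rw [← cancel_mono gR, Category.assoc, Category.assoc]; exact hab
      exact ⟨pullback.lift a b hab', pullback.lift_fst _ _ _, pullback.lift_snd _ _ _⟩
  let j' : Spec (CommRingCat.of (O ⊗[R] A)) ⟶ pullback H.hom gO := (pullbackSpecIso R O A).inv ≫ m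
  have hj' : j' ≫ p = Spec.map (CommRingCat.ofHom (algebraMap O (O ⊗[R] A))) := by
    show ((pullbackSpecIso R O A).inv ≫ m) ≫ p = _
    rw [Category.assoc, pullback.lift_snd, pullbackSpecIso_inv_fst']
  have hj'₁ : j' ≫ pullback.fst H.hom gO = Spec.map (CommRingCat.ofHom
      ((Algebra.TensorProduct.includeRight : A →ₐ[R] O ⊗[R] A) : A →+* O ⊗[R] A)) ≫ j := by
    show ((pullbackSpecIso R O A).inv ≫ m) ≫ _ = _
    rw [Category.assoc, pullback.lift_fst, pullbackSpecIso_inv_snd_assoc]
  obtain ⟨z, hz⟩ := exists_extend_of_units (L := L) (pullback H.hom gO) p e he (O ⊗[R] B) hB σ w hw hwe j' hj'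
    ((1 : O) ⊗ₜ[R] b)
  -- compare
  let iKL : K →+* L := IsFractionRing.lift (g := (algebraMap O L).comp (algebraMap R O))
    ((IsFractionRing.injective O L).comp hinj)
  have hι : ∀ r, iKL (algebraMap R K r) = algebraMap O L (algebraMap R O r) :=
    fun r => IsFractionRing.lift_algebraMap (A := R) (K := K) _ r
  have hsw : ∀ o : O, (1 : O ⊗[R] A) ⊗ₜ[O] algebraMap O L o = algebraMap O (O ⊗[R] A) o ⊗ₜ[O] (1 : L) := fun o => by
    rw [Algebra.algebraMap_eq_smul_one, ← TensorProduct.smul_tmul, ← Algebra.algebraMap_eq_smul_one]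
  let θA : A →ₐ[R] (O ⊗[R] A) ⊗[O] L :=
    { (Algebra.TensorProduct.includeLeftRingHom : O ⊗[R] A →+* (O ⊗[R] A) ⊗[O] L).comp
        ((Algebra.TensorProduct.includeRight : A →ₐ[R] O ⊗[R] A) : A →+* O ⊗[R] A) with
      commutes' := fun r => by
        show ((Algebra.TensorProduct.includeRight : A →ₐ[R] O ⊗[R] A) (algebraMap R A r)) ⊗ₜ[O] (1 : L) = _
        rw [AlgHom.commutes]
        rfl }
  let θK : K →ₐ[R] (O ⊗[R] A) ⊗[O] L :=
    { ((Algebra.TensorProduct.includeRight : L →ₐ[O] (O ⊗[R] A) ⊗[O] L).toRingHom).comp iKL with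
      commutes' := fun r => by
        show (1 : O ⊗[R] A) ⊗ₜ[O] iKL (algebraMap R K r) = _
        rw [hι, hsw, ← IsScalarTower.algebraMap_apply]
        rfl }
  let θ : A ⊗[R] K →ₐ[R] (O ⊗[R] A) ⊗[O] L := Algebra.TensorProduct.lift θA θK (fun _ _ => Commute.all _ _)
  have hθA : CommRingCat.ofHom (Algebra.TensorProduct.includeLeftRingHom : A →+* A ⊗[R] K) ≫
      CommRingCat.ofHom θ.toRingHom = CommRingCat.ofHom
        ((Algebra.TensorProduct.includeRight : A →ₐ[R] O ⊗[R] A) : A →+* O ⊗[R] A) ≫
        CommRingCat.ofHom (Algebra.TensorProduct.includeLeftRingHom : O ⊗[R] A →+* (O ⊗[R] A) ⊗[O] L) := by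
    ext x
    show θ (x ⊗ₜ[R] 1) = ((1 : O) ⊗ₜ[R] x) ⊗ₜ[O] (1 : L)
    simp [θ, θA]
  have hcomp : Spec.map (CommRingCat.ofHom θ.toRingHom) ≫ vR = chartGen (L := L) j' hj' ≫ wB := by
    have hto : Spec.map (CommRingCat.ofHom θ.toRingHom) ≫ k = chartGen (L := L) j' hj' ≫ toH := by
      rw [← cancel_mono (pullback.fst H.hom (genS S))]
      simp only [Category.assoc, hk, toH, pullback.lift_fst, chartGen, pullback.lift_fst_assoc, hj'₁]
      rw [← Spec.map_comp_assoc, ← Spec.map_comp_assoc, hθA]
    rw [← cancel_mono isoB]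
    apply pullback.hom_ext
    · simp only [Category.assoc]
      rw [hvR, hwB₁, reassoc_of% hto]
    · simp only [Category.assoc]
      rw [hisoB, hvR', hwB, chartGen, pullback.lift_fst_assoc, Category.assoc, reassoc_of% hj', ← Spec.map_comp_assoc,
        hθA, Spec.map_comp_assoc]
      simp only [gRO, ← Spec.map_comp]
      congr 1
      congr 1
      ext r
      show (1 : O) ⊗ₜ[R] algebraMap R A r = algebraMap O (O ⊗[R] A) (algebraMap R O r)
      rw [← IsScalarTower.algebraMap_apply, Algebra.algebraMap_eq_smul_one, TensorProduct.tmul_smul,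
        Algebra.algebraMap_eq_smul_one]
      rfl
  have hval : θ (ψ b) = z ⊗ₜ[O] (1 : L) := by
    rw [← hz, hψ]
    have h : Spec.preimage vR ≫ CommRingCat.ofHom θ.toRingHom = CommRingCat.ofHom
        ((Algebra.TensorProduct.includeRight : B →ₐ[R] O ⊗[R] B) : B →+* O ⊗[R] B) ≫
        Spec.preimage (chartGen (L := L) j' hj' ≫ w) := by
      apply Spec.map_injective
      rw [Spec.map_comp, Spec.map_comp, Spec.map_preimage, Spec.map_preimage, Category.assoc, hwR, hcomp]
    exact congrArg (fun f : CommRingCat.of B ⟶ CommRingCat.of ((O ⊗[R] A) ⊗[O] L) => f.hom b) h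
  have h1 := congrArg θ hu
  rw [map_mul, hval] at h1
  have h2 : θ ((1 : A) ⊗ₜ[R] algebraMap R K c) = algebraMap R (O ⊗[R] A) c ⊗ₜ[O] (1 : L) := by
    rw [show θ ((1 : A) ⊗ₜ[R] algebraMap R K c) = θK (algebraMap R K c) by simp [θ], θK.commutes]
    rfl
  have h3 : θ (a ⊗ₜ[R] 1) = ((1 : O) ⊗ₜ[R] a) ⊗ₜ[O] (1 : L) := by simp [θ, θA]
  rw [h2, h3, Algebra.TensorProduct.tmul_mul_tmul, _root_.one_mul] at h1
  have h4 : z * algebraMap R (O ⊗[R] A) c = (1 : O) ⊗ₜ[R] a := include_injective (R := O) (L := L) (O ⊗[R] A) h1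
  refine ⟨Algebra.TensorProduct.comm R O A z, ?_⟩
  have h5 := congrArg (Algebra.TensorProduct.comm R O A) h4
  rw [map_mul, AlgEquiv.commutes, Algebra.TensorProduct.comm_tmul] at h5
  rw [← IsScalarTower.algebraMap_apply, mul_comm]
  exact h5.symm

set_option maxHeartbeats 1000000 in
/-- A map on the generic fibre to a group of multiplicative type extends over an affine chart. -/
theorem exists_extend_chart {H T : Over S} [Flat H.hom] [GeometricallyIntegral H.hom]
    [GrpObj T] [IsAffineHom T.hom] (hT : SGA3x.IsMultTypeFT T) (eH : 𝟙_ (Over S) ⟶ H)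
    (v : pullback H.hom (genS S) ⟶ T.left) (hv : v ≫ T.hom = pullback.fst _ _ ≫ H.hom)
    (hve : pullback.lift (genS S ≫ eH.left) (𝟙 _) (by
      rw [Category.assoc, Over.w eH, Category.id_comp]; exact Category.comp_id _) ≫ v = genS S ≫ η[T].left)
    {R : Type u} [CommRing R] [IsDomain R] [IsNoetherianRing R] [IsIntegrallyClosed R]
    (K : Type u) [Field K] [Algebra R K] [IsFractionRing R K]
    (gR : Spec (CommRingCat.of R) ⟶ S) [IsOpenImmersion gR]
    {A : Type u} [CommRing A] [Algebra R A] [Module.Flat R A]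
    (j : Spec (CommRingCat.of A) ⟶ H.left) [IsOpenImmersion j]
    (hj : j ≫ H.hom = Spec.map (CommRingCat.ofHom (algebraMap R A)) ≫ gR) :
    ∃ f : Spec (CommRingCat.of A) ⟶ T.left, f ≫ T.hom = j ≫ H.hom ∧
      ∀ k : Spec (CommRingCat.of (A ⊗[R] K)) ⟶ pullback H.hom (genS S),
        k ≫ pullback.fst H.hom (genS S) = Spec.map (CommRingCat.ofHom Algebra.TensorProduct.includeLeftRingHom) ≫ j →
        Spec.map (CommRingCat.ofHom Algebra.TensorProduct.includeLeftRingHom) ≫ f = k ≫ v := by
  obtain ⟨k, hk⟩ := exists_genChart gR K H.hom j hj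
  let inclA : CommRingCat.of A ⟶ CommRingCat.of (A ⊗[R] K) :=
    CommRingCat.ofHom Algebra.TensorProduct.includeLeftRingHom
  haveI : IsAffineHom (Red.bc gR T).hom := inferInstanceAs (IsAffineHom (pullback.snd T.hom gR))
  obtain ⟨B, _, _, ⟨eB⟩⟩ := MultBridge.exists_hopf R (Red.bc gR T)
  let isoB : Spec (CommRingCat.of B) ⟶ pullback T.hom gR := eB.hom.hom.hom.left
  haveI : IsIso isoB := inferInstanceAs (IsIso ((Over.forget _).mapIso ((Grp.forget _).mapIso eB)).hom)
  have hisoB : isoB ≫ pullback.snd T.hom gR = Spec.map (CommRingCat.ofHom (algebraMap R B)) :=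
    Over.w eB.hom.hom.hom
  haveI : LocallyOfFinitePresentation T.hom := FixedSmooth.locallyOfFinitePresentation_of_isMultTypeFT hT
  haveI : Flat T.hom := MultKer.flat_hom_of_isMultTypeFT hT
  haveI hBfp : Algebra.FinitePresentation R B := by
    have h := MultBridge.prop_algebraMap eB @LocallyOfFinitePresentation
      (inferInstanceAs (LocallyOfFinitePresentation (pullback.snd T.hom gR)))
    rw [HasRingHomProperty.Spec_iff (P := @LocallyOfFinitePresentation)] at h
    exact RingHom.finitePresentation_algebraMap.1 h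
  haveI hBfl : Module.Flat R B := by
    have h := MultBridge.prop_algebraMap eB @Flat (inferInstanceAs (Flat (pullback.snd T.hom gR)))
    rw [HasRingHomProperty.Spec_iff (P := @Flat)] at h
    exact RingHom.flat_algebraMap_iff.1 h
  haveI : Algebra.FiniteType R B := inferInstance
  -- the function on the generic fibre
  let vR : Spec (CommRingCat.of (A ⊗[R] K)) ⟶ Spec (CommRingCat.of B) :=
    pullback.lift (k ≫ v) (Spec.map inclA ≫ Spec.map (CommRingCat.ofHom (algebraMap R A))) (by
      rw [Category.assoc, hv, ← Category.assoc, hk.w, Category.assoc, hj, Category.assoc]) ≫ inv isoB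
  have hvR : vR ≫ isoB ≫ pullback.fst T.hom gR = k ≫ v := by
    show (_ ≫ inv isoB) ≫ isoB ≫ _ = _
    rw [Category.assoc, IsIso.inv_hom_id_assoc, pullback.lift_fst]
  have hvR' : vR ≫ Spec.map (CommRingCat.ofHom (algebraMap R B)) =
      Spec.map inclA ≫ Spec.map (CommRingCat.ofHom (algebraMap R A)) := by
    show (_ ≫ inv isoB) ≫ _ = _
    rw [← hisoB, Category.assoc, IsIso.inv_hom_id_assoc, pullback.lift_snd]
  let ψ : B →ₐ[R] A ⊗[R] K :=
    { (Spec.preimage vR).hom with
      commutes' := fun r => by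
        have h : CommRingCat.ofHom (algebraMap R B) ≫ Spec.preimage vR = CommRingCat.ofHom (algebraMap R A) ≫ inclA := by
          apply Spec.map_injective
          rw [Spec.map_comp, Spec.map_preimage, hvR', Spec.map_comp]
        exact congrArg (fun f : CommRingCat.of R ⟶ CommRingCat.of (A ⊗[R] K) => f.hom r) h }
  have key : ∀ b : B, ψ b ∈ (Algebra.TensorProduct.includeLeft : A →ₐ[R] A ⊗[R] K).range := by
    intro b
    obtain ⟨a, c, hc, hu⟩ := exists_denom (ψ b)
    have hdvd : algebraMap R A c ∣ a := by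
      refine dvd_of_height_one hc a fun p _ hp _ => ?_
      obtain ⟨B₁, _, _, P₁, _, _, _, hd₁⟩ := MultBridge.exists_flat_split eB hT p
      obtain ⟨E, _, _, Q, hE, hQp, hQ, hdE⟩ :=
        MultBridge.exists_etale_split_of_quot (BialgHom.id R B) (fun a => ⟨a, rfl⟩) p B₁ P₁ hd₁
      haveI := hE
      haveI := hQp
      obtain ⟨hdom, hdvr⟩ := isDVR_of_etale p hp Q hQ
      haveI := hdom
      haveI := hdvr
      let O := Localization.AtPrime Q
      haveI : Module.Flat E O := IsLocalization.flat _ Q.primeCompl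
      haveI : Module.Flat R E := inferInstance
      haveI hRO : Module.Flat R O := Module.Flat.trans R E O
      have hOp : (maximalIdeal O).comap (algebraMap R O) = p := by
        rw [IsScalarTower.algebraMap_eq R E O, ← Ideal.comap_comap,
          show (maximalIdeal O).comap (algebraMap E O) = Q from IsLocalization.AtPrime.comap_maximalIdeal O Q, hQ]
      refine ⟨O, inferInstance, inferInstance, hRO, ⟨maximalIdeal O, inferInstance, hOp⟩, ?_⟩
      have hinjRO : Function.Injective (algebraMap R O) := by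
        rw [injective_iff_map_eq_zero]
        intro r hr
        by_contra hr0
        have h1 : (1 : O) ⊗ₜ[R] algebraMap R K r = 0 := by
          rw [Algebra.algebraMap_eq_smul_one, ← TensorProduct.smul_tmul, ← Algebra.algebraMap_eq_smul_one, hr,
            TensorProduct.zero_tmul]
        have h2 : (1 : O) ⊗ₜ[R] (1 : K) = 0 := by
          have := congrArg (· * ((1 : O) ⊗ₜ[R] (algebraMap R K r)⁻¹)) h1
          simpa [Algebra.TensorProduct.tmul_mul_tmul,
            mul_inv_cancel₀ ((map_ne_zero_iff _ (IsFractionRing.injective R K)).2 hr0)] using this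
        exact one_ne_zero (include_injective (R := R) (L := K) O (h2.trans (TensorProduct.zero_tmul _ _).symm))
      exact chart_dvd hj eH v hv hve isoB hisoB (FractionRing O) (adjoin_units_of_isDiag hdE) hinjRO k hk.w vR hvR hvR'
        ψ.toRingHom rfl b a c hu
    obtain ⟨a', rfl⟩ := hdvd
    refine ⟨a', ?_⟩
    have hu' : IsUnit ((1 : A) ⊗ₜ[R] algebraMap R K c) :=
      ((isUnit_iff_ne_zero.2 ((map_ne_zero_iff _ (IsFractionRing.injective R K)).2 hc)).map
        (Algebra.TensorProduct.includeRight : K →ₐ[R] A ⊗[R] K))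
    apply hu'.mul_right_cancel
    rw [hu]
    show a' ⊗ₜ[R] (1 : K) * (1 ⊗ₜ[R] algebraMap R K c) = (algebraMap R A c * a') ⊗ₜ[R] 1
    rw [Algebra.TensorProduct.tmul_mul_tmul, _root_.mul_one, _root_.one_mul, Algebra.algebraMap_eq_smul_one (A := K),
      ← TensorProduct.smul_tmul, Algebra.smul_def]
  have hinj : Function.Injective (Algebra.TensorProduct.includeLeft : A →ₐ[R] A ⊗[R] K) :=
    include_injective (R := R) (L := K) A
  let χ : B →ₐ[R] A := ((AlgEquiv.ofInjective _ hinj).symm : _ →ₐ[R] A).comp (ψ.codRestrict _ key)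
  have hχ : CommRingCat.ofHom χ.toRingHom ≫ inclA = Spec.preimage vR := by
    ext x
    exact congrArg Subtype.val ((AlgEquiv.ofInjective _ hinj).apply_symm_apply (ψ.codRestrict _ key x))
  refine ⟨Spec.map (CommRingCat.ofHom χ.toRingHom) ≫ isoB ≫ pullback.fst T.hom gR, ?_, fun k' hk' => ?_⟩
  · rw [Category.assoc, Category.assoc, pullback.condition, reassoc_of% hisoB, ← Spec.map_comp_assoc, hj]
    congr 2
    ext r
    exact χ.commutes r
  · have : k' = k := by
      rw [← cancel_mono (pullback.fst H.hom (genS S)), hk', hk.w]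
    rw [this, ← Category.assoc, ← Spec.map_comp, hχ, Spec.map_preimage, hvR]

end Groth.Agent.GenExt
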